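import Cfsg.Agent.Lib.SolvSF.Two.Base
import Cfsg.Agent.Lib.SolvSF.Engine
import Cfsg.Agent.Lib.SolvSF.Cores

/-!
Two members with several cores on both sides, and a member of the wrong type.
-/

set_option autoImplicit false
set_option linter.unusedSectionVars false
set_option linter.style.haveILetI false

namespace CfsgLib.SolvSF.Two

open Cfsg Subgroup CfsgLib.Signalizer CfsgLib.SolvSF
open scoped commutatorElement

universe u
variable {G : Type u} [Group G] [Finite G] {p : ℕ} [Fact p.Prime] {A : Subgroup G} {θ : G → Subgroup G} {q t : ℕ}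

/-- A member with two cores in `𝒢_q` and one in `𝒢_t` cannot coexist. -/
theorem multi_both (s : Two p A θ q t) [Fact q.Prime] [Fact t.Prime] {G₁ G₂ : Subgroup G}
    (h1 : MM p A θ G₁) (hW1 : W p A θ q ≤ G₁) (hq1 : O q G₁ ≠ ⊥) (ht1 : O t G₁ ≠ ⊥)
    (h2 : MM p A θ G₂) (hW2 : W p A θ t ≤ G₂) (hq2 : O q G₂ ≠ ⊥) (ht2 : O t G₂ ≠ ⊥) : False := by
  have h := s.ctx
  have hB : IsPGroup t (O t G₂ ⊓ G₁ : Subgroup G) := (O_isPGroup (K := G₂)).to_le inf_le_left
  have hAB : A ≤ normalizer ((O t G₂ ⊓ G₁ : Subgroup G) : Set G) :=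
    le_normalizer_inf (A_O h h2) (mem_normalizes h1.1)
  have hQ : O q G₂ ≤ G₁ := (O_le_W h h2).trans hW1
  -- `O_t G₂ ∩ G₁` centralises `O_q G₁`
  have hBq : O t G₂ ⊓ G₁ ≤ centralizer (O q G₁ : Set G) := by
    refine axb O_isPGroup ?_ (O_isPGroup (q := q) (K := G₁)) (hQ.trans O_normal) (inf_le_right.trans O_normal)
      (inf_le_left.trans (O_centralizes_own s.ne.symm)) ?_
    · intro hd
      obtain ⟨k, hk⟩ := hB.exists_card_eq
      exact s.ne ((Nat.prime_dvd_prime_iff_eq Fact.out Fact.out).1 ((Fact.out : q.Prime).dvd_of_dvd_pow (hk ▸ hd)))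
    · have hCK : O q G₁ ⊓ centralizer (O q G₂ : Set G) ≤ G₂ :=
        le_of_normalizes_O h h2 hq2
          (mem_sub h (O_mem h h1.1) inf_le_left
            (le_normalizer_inf (A_O h h1) (le_normalizer_centralizer' (A_O h h2))))
          (inf_le_right.trans (centralizer_le_normalizer _))
      exact O_commute s.ne.symm inf_le_left inf_le_left inf_le_right hCK
  set N := O t G₂ ⊓ centralizer (W p A θ t : Set G) with hN
  have hN1 : N ≠ ⊥ :=
    inf_centralizer_ne_bot (W_isPGroup h) (O_le_W h h2) (hW2.trans O_normal) ht2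
  have hAN : A ≤ normalizer (N : Set G) := le_normalizer_inf (A_O h h2) (le_normalizer_centralizer' (A_W h))
  have hNm : Mem p A θ N := mem_sub h (O_mem h h2.1) inf_le_left hAN
  have hND : DD A θ ≤ normalizer (N : Set G) :=
    le_normalizer_inf (D_O h2) (le_normalizer_centralizer' (W_dd h))
  have hNt : N ≤ centralizer (O t G₁ : Set G) :=
    inf_le_right.trans (Subgroup.centralizer_le (SetLike.coe_subset_coe.mpr (O_le_W h h1)))
  have hNG : N ≤ G₁ := le_of_normalizes_O h h1 ht1 hNm (hNt.trans (centralizer_le_normalizer _))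
  have hNq : N ≤ centralizer (O q G₁ : Set G) := (le_inf inf_le_left hNG).trans hBq
  obtain ⟨M, hM, -, hM'⟩ := exists_MM_normalizer h hNm hN1 hND
  have hcores : ∀ {L : Subgroup G}, MM p A θ L → N ≤ centralizer (O q L : Set G) →
      N ≤ centralizer (O t L : Set G) → ∀ r : ℕ, r.Prime → O r L ≤ M := by
    intro L hL hq' ht' r hr
    by_cases e1 : r = q
    · rw [e1]
      exact hM' _ (O_mem h hL.1) ((Subgroup.le_centralizer_iff.mp hq').trans (centralizer_le_normalizer _))
    by_cases e2 : r = t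
    · rw [e2]
      exact hM' _ (O_mem h hL.1) ((Subgroup.le_centralizer_iff.mp ht').trans (centralizer_le_normalizer _))
    · rw [O_bot_other s hL hr e1 e2]; exact bot_le
  have hc1 := hcores h1 hNq hNt
  have hc2 := hcores h2 (inf_le_left.trans (O_centralizes_own s.ne.symm))
    (inf_le_right.trans (Subgroup.centralizer_le (SetLike.coe_subset_coe.mpr (O_le_W h h2))))
  have hback : ∀ {L : Subgroup G}, MM p A θ L → (∀ r : ℕ, r.Prime → O r L ≤ M) → O q L ≠ ⊥ → O t L ≠ ⊥ →
      L = M := by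
    intro L hL hc hq' ht'
    refine eq_of_cores h hL hM hc (fun r hr => ?_) (Fact.out : q.Prime) (Fact.out : t.Prime) s.ne hq' ht'
    by_cases e1 : r = q
    · rw [e1]; exact core_le_of_multi h hL hM hc s.ne.symm ht' hq'
    by_cases e2 : r = t
    · rw [e2]; exact core_le_of_multi h hL hM hc s.ne hq' ht'
    · rw [O_bot_other s hM hr e1 e2]; exact bot_le
  have e : G₁ = G₂ := (hback h1 hc1 hq1 ht1).trans (hback h2 hc2 hq2 ht2).symm
  exact not_both s h1 hW1 (e ▸ hW2)

/-- No member of type `t` contains `W q`. -/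
theorem no_wrong_type (s : Two p A θ q t) [Fact q.Prime] [Fact t.Prime] {Gt : Subgroup G}
    (hG : MM p A θ Gt) (hWG : W p A θ q ≤ Gt) (hO : O q Gt = ⊥) : False := by
  have h := s.ctx
  have hOt : O t Gt ≠ ⊥ := one_core s.symm hG hO
  have hall : AllType p A θ t q := fun K hK hW => by
    refine bot_of_cent s hG hO ((O_le_W h hK).trans hWG) O_isPGroup ?_
    exact O_commute s.ne le_rfl le_rfl ((O_le_W h hK).trans hWG) ((O_le_W h hG).trans hW)
  set Zt := ZOm t (W p A θ t) with hZt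
  have hZ1 : Zt ≠ ⊥ := Z_ne s.symm hall
  have hZG : Zt ≤ O t Gt := ZOm_W_le_O h hG hOt (single_q s.symm hG hO)
  have hT : T0 p A θ t ≠ ⊥ := fun e => hZ1 (le_bot_iff.1 (e ▸ Z_le_T0 s.symm hall))
  -- `Z_t` centralises every `q`-core of a member containing it
  have hZc : ∀ K, MM p A θ K → Zt ≤ K → O q K ≤ centralizer (Zt : Set G) := fun K hK hZK =>
    O_commute s.ne le_rfl hZG ((O_le_W h hK).trans hWG) hZK
  have hZlack : ∀ K, MM p A θ K → O t K = ⊥ → ¬ Zt ≤ K := fun K hK hKt hZK =>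
    hZ1 (bot_of_cent s.symm hK hKt hZK (Z_pgroup h) (Subgroup.le_centralizer_iff.mp (hZc K hK hZK)))
  obtain ⟨G', hG', hWG', hG''⟩ := M_of_center h (Z_mem h) hZ1 (D_Z h) W_le_cent_Z
  have hTG' : T0 p A θ t ≤ O t G' :=
    inf_le_right.trans (iInf_le (fun K : {K : Subgroup G // MM p A θ K ∧ W p A θ t ≤ K} => O t (K : Subgroup G))
      ⟨G', hG', hWG'⟩)
  have hE2 : ∀ K, MM p A θ K → O t K ≠ ⊥ → ∀ r : ℕ, r.Prime → r ≠ t →
      T0 p A θ t ⊓ K ≤ centralizer (O r K : Set G) := by
    intro K hK hKt r hr hrt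
    by_cases e : r = q
    · rw [e]
      have hQG : O q K ≤ G' := hG'' _ (O_mem h hK.1) ((hZc K hK (ZOm_W_le h hK hKt)).trans
        (centralizer_le_normalizer _))
      exact O_commute s.ne.symm (inf_le_left.trans hTG') le_rfl inf_le_right hQG
    · rw [O_bot_other s hK hr e hrt]
      exact fun x _ y hy => by
        rw [Subgroup.coe_bot, Set.mem_singleton_iff] at hy
        rw [hy, one_mul, mul_one]
  have hlift := lift h (fun K hK hW => one_core s.symm hK (hall K hK hW)) hT hE2 hZlack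
  have hYq : ∀ K, MM p A θ K → O t K = ⊥ → O t Gt ⊓ K = ⊥ := fun K hK hKt =>
    bot_of_cent s.symm hK hKt inf_le_right ((O_isPGroup (K := Gt)).to_le inf_le_left)
      (O_commute s.ne.symm inf_le_left le_rfl inf_le_right ((O_le_W h hK).trans hWG))
  have hE : EngineHyp p A θ t := engineHyp_of h (W_q_ne s.symm hall)
    (fun K hK hW => one_core s.symm hK (hall K hK hW)) hT hE2
    (fun K hK hKt => le_bot_iff.1 ((inf_le_inf_right _ (hlift Gt hG hOt)).trans (hYq K hK hKt).le)) hZlack
  exact engine h hE (Y := O t Gt) ⟨O_mem h hG.1, hYq⟩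
    fun H hH => multi_of_single h hG (single_q s.symm hG hO) hH

end CfsgLib.SolvSF.Two
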