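import Cfsg.Agent.Lib.SolvSF.Two.Base
import Cfsg.Agent.Lib.SolvSF.Engine

/-!
A maximal member with two cores.
-/

set_option autoImplicit false
set_option linter.unusedSectionVars false
set_option linter.style.haveILetI false

namespace CfsgLib.SolvSF.Two

open Cfsg Subgroup CfsgLib.Signalizer CfsgLib.SolvSF
open scoped commutatorElement

universe u
variable {G : Type u} [Group G] [Finite G] {p : ℕ} [Fact p.Prime] {A : Subgroup G} {θ : G → Subgroup G} {q t : ℕ}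

theorem line_ne_bot {H : Subgroup G} (hH : Line p A H) : H ≠ ⊥ := fun e => by
  have := hH.2
  rw [e, Subgroup.card_bot] at this
  exact (Nat.one_lt_pow (by norm_num) (Fact.out : p.Prime).one_lt).ne this

theorem exists_piece (h : Ctx p A θ) {X : Subgroup G} (hX : Mem p A θ X) (hX1 : X ≠ ⊥) :
    ∃ H, Line p A H ∧ X ⊓ centralizer (H : Set G) ≠ ⊥ := by
  by_contra hcon
  push Not at hcon
  exact hX1 (le_bot_iff.1 (le_of_lines h hX fun H hH => (hcon H hH).le))

/-- A proper subgroup of `A` lies in a line. -/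
theorem line_of_proper (h : Ctx p A θ) {S : Subgroup G} (hS : S ≤ A) (hne : S ≠ A) :
    ∃ H, Line p A H ∧ S ≤ H := by
  obtain ⟨D, hSD, hDA, hDi⟩ := exists_hyperplane h.hA hS hne
  refine ⟨D, ⟨hDA, ?_⟩, hSD⟩
  have h1 := Subgroup.relIndex_mul_relIndex ⊥ D A bot_le hDA
  rw [Subgroup.relIndex_bot_left, Subgroup.relIndex_bot_left, hDi, h.hA3] at h1
  exact Nat.eq_of_mul_eq_mul_right (Fact.out : p.Prime).pos (h1.trans (by ring))

/-- If the fixed point free parts of `Z(W q)` centralise `U`, so does all but `Z(W q) ∩ D`. -/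
theorem split_fix (h : Ctx p A θ) [Fact q.Prime] {U : Subgroup G} (hAU : A ≤ normalizer (U : Set G))
    {S : Set G} (hSA : S ⊆ A) (hAS : A ≤ Subgroup.closure S)
    (hfix : ∀ a ∈ S, ∀ z ∈ ZOm q (W p A θ q), a * z * a⁻¹ * z⁻¹ ∈ centralizer (U : Set G)) :
    U ⊓ centralizer ((ZOm q (W p A θ q) ⊓ DD A θ : Subgroup G) : Set G) ≤
      centralizer (ZOm q (W p A θ q) : Set G) := by
  set Z := ZOm q (W p A θ q) with hZ
  have hAC : A ≤ normalizer (centralizer (U : Set G) : Set G) := le_normalizer_centralizer' hAU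
  have hall : ∀ a ∈ A, ∀ z ∈ Z, a * z * a⁻¹ * z⁻¹ ∈ centralizer (U : Set G) := by
    intro a ha
    have key : a ∈ A ∧ ∀ z ∈ Z, a * z * a⁻¹ * z⁻¹ ∈ centralizer (U : Set G) := by
      refine Subgroup.closure_induction (p := fun a _ => a ∈ A ∧
        ∀ z ∈ Z, a * z * a⁻¹ * z⁻¹ ∈ centralizer (U : Set G)) (fun x hx => ⟨hSA hx, hfix x hx⟩)
        ⟨one_mem _, fun z _ => by simp⟩ (fun x y _ _ hx hy => ⟨mul_mem hx.1 hy.1, fun z hz => ?_⟩)
        (fun x _ hx => ⟨inv_mem hx.1, fun z hz => ?_⟩) (hAS ha)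
      · have h1 := (Subgroup.mem_normalizer_iff.mp (hAC hx.1) _).mp (hy.2 z hz)
        have := mul_mem h1 (hx.2 z hz)
        have e : x * y * z * (x * y)⁻¹ * z⁻¹ = x * (y * z * y⁻¹ * z⁻¹) * x⁻¹ * (x * z * x⁻¹ * z⁻¹) := by group
        rw [e]; exact this
      · have h1 := (Subgroup.mem_normalizer_iff''.mp (hAC hx.1) _).mp (inv_mem (hx.2 z hz))
        have e : x⁻¹ * z * x⁻¹⁻¹ * z⁻¹ = x⁻¹ * (x * z * x⁻¹ * z⁻¹)⁻¹ * x := by group
        rw [e]; exact h1
    exact key.2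
  have hcop : (Nat.card A).Coprime (Nat.card Z) := ea_coprime h.hA (Z_mem h).2.1
  have hZle : Z ≤ (Z ⊓ DD A θ) ⊔ (Z ⊓ centralizer (U : Set G)) := by
    intro z hz
    have hZn : Z ≤ normalizer ((Z ⊓ centralizer (U : Set G) : Subgroup G) : Set G) := fun g hg =>
      Comp.mem_normalizer_of_maps fun x hx => by
        have hgx : g * x = x * g := ((ZOm_le.trans inf_le_right : Z ≤ _) hg x (Z_le_W hx.1)).symm
        rw [hgx, mul_inv_cancel_right]
        exact hx
    obtain ⟨c, hc, hzc⟩ := coprime_fixed_quotient (A_Z h) hcop (Or.inl (ea_solvable h.hA)) inf_le_left hZn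
      (le_normalizer_inf (A_Z h) hAC) hz (fun a ha => ⟨mul_mem
        ((Subgroup.mem_normalizer_iff.mp (A_Z h ha) z).mp hz) (Z.inv_mem hz), hall a ha z hz⟩)
    have hcD : c ∈ Z ⊓ DD A θ := ⟨hc.1, inf_centralizer_A_le h (Z_mem h) hc⟩
    have e : z = c * (z⁻¹ * c)⁻¹ := by group
    rw [e]
    exact Subgroup.mul_mem_sup hcD (inv_mem hzc)
  intro u hu z hz
  have h1 : (Z ⊓ DD A θ) ⊔ (Z ⊓ centralizer (U : Set G)) ≤ centralizer ({u} : Set G) := sup_le
    (fun x hx => Subgroup.mem_centralizer_singleton_iff.mpr (hu.2 x hx))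
    (fun x hx => Subgroup.mem_centralizer_singleton_iff.mpr (hx.2 u hu.1).symm)
  exact Subgroup.mem_centralizer_singleton_iff.mp (h1 (hZle hz))

/-- A point without `t`-colour moves `Z(W q)` only by elements centralising `O_t` of a member with two cores. -/
theorem point_fix (s : Two p A θ q t) [Fact q.Prime] [Fact t.Prime] (hall : AllType p A θ q t)
    {K L : Subgroup G} (hK : MM p A θ K) (hV : O q K ≠ ⊥) {b : G} (hb : Pt A b) (hL : MM p A θ L)
    (hbL : θ b ≤ L) (hLt : O t L = ⊥) :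
    ∀ z ∈ ZOm q (W p A θ q), b * z * b⁻¹ * z⁻¹ ∈ centralizer (O t K : Set G) := by
  have h := s.ctx
  set Z := ZOm q (W p A θ q) with hZ
  haveI : IsMulCommutative Z := ⟨⟨fun x y => Subtype.ext
    (((ZOm_le.trans inf_le_right : Z ≤ _) y.2) x (Z_le_W x.2))⟩⟩
  have hp : p.Prime := Fact.out
  have hfix : O t K ⊓ centralizer ({b} : Set G) = ⊥ := le_bot_iff.1
    ((le_inf inf_le_left (((O_mem h hK.1).2.2.2 b hb.1 hb.2).trans hbL)).trans
      (U_inf_qtype s hall hK hV hL hLt).le)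
  have hU : IsPGroup t (O t K) := O_isPGroup
  have h1 := frob (Z := Z) (U := O t K) (orderOf_eq_prime_of_ea h.hA hb.1 hb.2) (A_Z h hb.1) (A_O h hK hb.1)
    ((ZOm_W_le h hK hV).trans O_normal) ((hp.coprime_iff_not_dvd).2 (Z_mem h).2.1)
    ((hp.coprime_iff_not_dvd).2 (O_mem h hK.1).2.1)
    (IsPGroup.coprime_card_of_ne q t s.ne _ _ (Z_pgroup h) hU) (O_mem h hK.1).1 hfix
  intro z hz
  have h2 := inv_mem (h1 (Subgroup.commutator_mem_commutator hz (mem_zpowers b)))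
  simpa [commutatorElement_def, mul_assoc] using h2

/-- Some element of `W q` outside `K` lies over a line. -/
theorem exists_moved (h : Ctx p A θ) [Fact q.Prime] {K : Subgroup G} (hK : MM p A θ K)
    (hW : ¬ W p A θ q ≤ K) :
    ∃ H x, Line p A H ∧ x ∈ W p A θ q ∧ x ∈ centralizer (H : Set G) ∧ x ∉ K := by
  by_contra hcon
  push Not at hcon
  set X := W p A θ q ⊓ normalizer ((W p A θ q ⊓ K : Subgroup G) : Set G) with hX
  have hXm : Mem p A θ X := mem_sub h (W_mem h) inf_le_left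
    (le_normalizer_inf (A_W h) (le_normalizer_normalizer (le_normalizer_inf (A_W h) (mem_normalizes hK.1))))
  have hXK : X ≤ K := le_of_lines h hXm fun H hH x hx => hcon H x hH hx.1.1 hx.2
  exact hW (inf_eq_left.1 (eq_of_normalizer_le (W_isPGroup h) inf_le_left (le_inf inf_le_left hXK)))

/-- The final contradiction of the moved element. -/
theorem moved (s : Two p A θ q t) [Fact q.Prime] [Fact t.Prime] (hall : AllType p A θ q t)
    {K L : Subgroup G} (hK : MM p A θ K) (hKq : O q K ≠ ⊥) (hKt : O t K ≠ ⊥)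
    (huniq : ∀ N, MM p A θ N → O q N ≠ ⊥ → O t N ≠ ⊥ → N = K)
    (hVt : ∀ N, MM p A θ N → O q N = ⊥ → O q K ⊓ N = ⊥)
    (hfpf : O t K ⊓ centralizer ((ZOm q (W p A θ q) ⊓ DD A θ : Subgroup G) : Set G) = ⊥)
    (hL : MM p A θ L) (hLq : O q L = ⊥)
    (hI : ⁅O t L, ZOm q (W p A θ q) ⊓ DD A θ⁆ ≤ O t K)
    {x : G} (hxW : x ∈ W p A θ q) (hxL : x ∈ L) (hxK : x ∉ K) : False := by
  have h := s.ctx
  set Z₀ := ZOm q (W p A θ q) ⊓ DD A θ with hZ₀
  set I := ⁅O t L, Z₀⁆ with hIdef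
  have hZL : Z₀ ≤ L := inf_le_right.trans hL.2.1
  have hI1 : I ≠ ⊥ := fun e => by
    have hc : Z₀ ≤ centralizer (O t L : Set G) := by
      rw [← Subgroup.commutator_eq_bot_iff_le_centralizer, Subgroup.commutator_comm]; exact e
    have hZ1 : Z₀ = ⊥ := bot_of_cent s hL hLq hZL ((Z_pgroup h).to_le inf_le_left) hc
    refine hKt (le_bot_iff.1 ((le_inf le_rfl ?_).trans hfpf.le))
    intro y _ z hz
    rw [SetLike.mem_coe, hZ1, Subgroup.mem_bot] at hz
    rw [hz, one_mul, mul_one]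
  have hAZ : A ≤ normalizer (Z₀ : Set G) := le_normalizer_inf (A_Z h) (mem_normalizes (dd_mem h))
  have hIL : I ≤ O t L := commutator_le_of_le_normalizer (hZL.trans O_normal)
  have hIm : Mem p A θ I := mem_sub h (O_mem h hL.1) hIL (le_normalizer_commutator' (A_O h hL) hAZ)
  have hDI : DD A θ ≤ normalizer (I : Set G) :=
    le_normalizer_commutator' (D_O hL) (le_normalizer_inf (D_Z h) Subgroup.le_normalizer)
  obtain ⟨N, hN, hIN, hN'⟩ := exists_MM_normalizer h hIm hI1 hDI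
  have hVN : O q K ≤ N := hN' _ (O_mem h hK.1) ((Subgroup.le_centralizer_iff.mp
    (hI.trans (O_centralizes_own s.ne.symm))).trans (centralizer_le_normalizer _))
  have hxN : x ∈ N := hN' (W p A θ q ⊓ L)
    (mem_sub h (W_mem h) inf_le_left (le_normalizer_inf (A_W h) (mem_normalizes hL.1)))
    (le_normalizer_commutator' (inf_le_right.trans O_normal)
      (((inf_le_left.trans W_le_cent_Z).trans
        (Subgroup.centralizer_le (SetLike.coe_subset_coe.mpr inf_le_left))).trans (centralizer_le_normalizer _)))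
    ⟨hxW, hxL⟩
  by_cases hNt : O t N = ⊥
  · exact hI1 (le_bot_iff.1 ((le_inf hI hIN).trans (U_inf_qtype s hall hK hKq hN hNt).le))
  by_cases hNq : O q N = ⊥
  · exact hKq (le_bot_iff.1 ((le_inf le_rfl hVN).trans (hVt N hN hNq).le))
  exact hxK (huniq N hN hNq hNt ▸ hxN)

/-- The member with two cores contains `W t`. -/
theorem multi_in (s : Two p A θ q t) [Fact q.Prime] [Fact t.Prime] (hall : AllType p A θ q t)
    (hno : NoOther p A θ t) {K : Subgroup G} (hK : MM p A θ K) (hW : W p A θ t ≤ K) (hKq : O q K ≠ ⊥) :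
    False := by
  have h := s.ctx
  have hKt : O t K ≠ ⊥ := hno K hK hW
  have huniq : ∀ N, MM p A θ N → O q N ≠ ⊥ → O t N ≠ ⊥ → N = K := by
    intro N hN hNq hNt
    have hle : O t N ≤ O t K :=
      (le_inf le_rfl ((O_le_W h hN).trans hW)).trans (U_inf_le s hall hN hNq hK hKq)
    refine eq_of_core_eq h hK hN hKt (eq_of_normalizer_le O_isPGroup hle ?_)
    refine (le_inf inf_le_left ?_).trans (U_inf_le s hall hK hKq hN hNq)
    exact le_of_normalizes_O h hN hNt (mem_sub h (O_mem h hK.1) inf_le_left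
      (le_normalizer_inf (A_O h hK) (le_normalizer_normalizer (A_O h hN)))) inf_le_right
  -- a non-trivial part of `Z(W t)` inside `O_t K`
  have hN0 : O t K ⊓ centralizer (W p A θ t : Set G) ≠ ⊥ :=
    inf_centralizer_ne_bot (W_isPGroup h) (O_le_W h hK) (hW.trans O_normal) hKt
  obtain ⟨z, hz, hzt⟩ : ∃ z ∈ O t K ⊓ centralizer (W p A θ t : Set G), orderOf z = t := by
    have hP : IsPGroup t (O t K ⊓ centralizer (W p A θ t : Set G) : Subgroup G) :=
      (O_isPGroup (K := K)).to_le inf_le_left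
    obtain ⟨i, hi⟩ := hP.exists_card_eq
    have hi0 : i ≠ 0 := by
      intro e
      rw [e, pow_zero, Subgroup.card_eq_one] at hi
      exact hN0 hi
    obtain ⟨⟨z, hz⟩, hzo⟩ := exists_prime_orderOf_dvd_card' t (hi ▸ dvd_pow_self t hi0)
    rw [Subgroup.orderOf_mk] at hzo
    exact ⟨z, hz, hzo⟩
  have hz1 : z ≠ 1 := fun e => (Fact.out : t.Prime).ne_one (by rw [← hzt, e, orderOf_one])
  have hzZ : z ∈ ZOm t (W p A θ t) := Subgroup.subset_closure
    ⟨⟨O_le_W h hK hz.1, hz.2⟩, by rw [← hzt, pow_orderOf_eq_one]⟩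
  have hzT : z ∈ T0 p A θ t := by
    refine ⟨Z_le_W hzZ, Subgroup.mem_iInf.2 fun ⟨L, hL, hWL⟩ => ?_⟩
    by_cases e : O q L = ⊥
    · exact ZOm_W_le_O h hL (hno L hL hWL) (single_q s.symm hL e) hzZ
    · show z ∈ O t L
      rw [huniq L hL e (hno L hL hWL)]; exact hz.1
  have hT : T0 p A θ t ≠ ⊥ := fun e => hz1 (by rwa [e, Subgroup.mem_bot] at hzT)
  have hTU : T0 p A θ t ≤ O t K :=
    inf_le_right.trans (iInf_le (fun L : {L : Subgroup G // MM p A θ L ∧ W p A θ t ≤ L} => O t (L : Subgroup G))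
      ⟨K, hK, hW⟩)
  have hUq : ∀ L, MM p A θ L → O t L = ⊥ → O t K ⊓ L = ⊥ := fun L hL => U_inf_qtype s hall hK hKq hL
  have hE : EngineHyp p A θ t := engineHyp_of h (W_ne_bot h hK hKt) (fun L hL hWL => hno L hL hWL) hT
    (fun L hL hLt r hr hrt => by
      by_cases e : r = q
      · rw [e]
        by_cases eq : O q L = ⊥
        · rw [eq]
          exact fun x _ y hy => by
            rw [Subgroup.coe_bot, Set.mem_singleton_iff] at hy
            rw [hy, one_mul, mul_one]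
        · rw [huniq L hL eq hLt]
          exact (inf_le_left.trans hTU).trans (O_centralizes_own s.ne.symm)
      · rw [O_bot_other s hL hr e hrt]
        exact fun x _ y hy => by
          rw [Subgroup.coe_bot, Set.mem_singleton_iff] at hy
          rw [hy, one_mul, mul_one])
    (fun L hL hLt => le_bot_iff.1 ((inf_le_inf_right _ hTU).trans (hUq L hL hLt).le))
    (fun L hL hLt hZL => hz1 (by
      have : z ∈ O t K ⊓ L := ⟨hz.1, hZL hzZ⟩
      rwa [hUq L hL hLt, Subgroup.mem_bot] at this))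
  by_cases hm : Multi p A (O t K)
  · exact engine h hE ⟨O_mem h hK.1, hUq⟩ hm
  rw [Multi] at hm
  push Not at hm
  obtain ⟨R, hR, hUR⟩ := hm
  -- a point without `t`-colour
  by_cases hgood : ∀ a, Pt A a → NonLack p A θ t a
  · refine not_all_normalize h hE fun H hH => ?_
    obtain ⟨d, e, hd, hd1, he, hde, he1⟩ := two_indep h hH
    exact good_line h hE hH hd hd1 he hde (hgood d ⟨hH.1 hd, hd1⟩) (hgood e ⟨hH.1 he, he1⟩)
  push Not at hgood
  obtain ⟨b, hb, hbn⟩ := hgood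
  obtain ⟨Kb, hKb, hbK⟩ := exists_colour h hb
  have hKbt : O t Kb = ⊥ := not_not.1 fun hne => hbn ⟨Kb, hKb, hbK, hne⟩
  have hUθ : ∀ a ∈ R, a ≠ 1 → ∀ L, θ a ≤ L → O t K ≤ L := fun a ha ha1 L hL =>
    (le_inf le_rfl hUR).trans ((le_theta h (O_mem h hK.1) hR.1 ha ha1).trans hL)
  have hbR : b ∉ R := fun hbR => hKt (le_bot_iff.1
    ((le_inf le_rfl (hUθ b hbR hb.2 Kb hbK)).trans (hUq Kb hKb hKbt).le))
  have hfpf : O t K ⊓ centralizer ((ZOm q (W p A θ q) ⊓ DD A θ : Subgroup G) : Set G) = ⊥ := by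
    refine le_bot_iff.1 ((le_inf inf_le_left (split_fix h (A_O h hK) (S := (R : Set G) ∪ {b}) ?_ ?_ ?_)).trans
      (U_cent_Z s hall hK hKq).le)
    · exact Set.union_subset hR.1 (Set.singleton_subset_iff.2 hb.1)
    · rw [← sup_point h hR hb.1 hbR]
      exact sup_le (fun x hx => Subgroup.subset_closure (Or.inl hx))
        (Subgroup.zpowers_le.2 (Subgroup.subset_closure (Or.inr rfl)))
    · rintro a (ha | rfl) z hz
      · intro u hu
        have hu' : z⁻¹ * u * z ∈ O t K :=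
          (Subgroup.mem_normalizer_iff''.mp (O_normal (ZOm_W_le h hK hKq hz)) u).mp hu
        have e1 : a⁻¹ * u * a = u := by rw [mul_assoc, ← hUR hu a ha, inv_mul_cancel_left]
        have e2 : a * (z⁻¹ * u * z) * a⁻¹ = z⁻¹ * u * z := by rw [hUR hu' a ha, mul_inv_cancel_right]
        have e3 : (a * z * a⁻¹ * z⁻¹)⁻¹ * u * (a * z * a⁻¹ * z⁻¹) = u := by
          calc (a * z * a⁻¹ * z⁻¹)⁻¹ * u * (a * z * a⁻¹ * z⁻¹)
              = z * (a * (z⁻¹ * (a⁻¹ * u * a) * z) * a⁻¹) * z⁻¹ := by group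
            _ = z * (z⁻¹ * u * z) * z⁻¹ := by rw [e1, e2]
            _ = u := by group
        rw [mul_assoc, inv_mul_eq_iff_eq_mul] at e3
        exact e3
      · exact point_fix s hall hK hKq hb hKb hbK hKbt z hz
  obtain ⟨H, x, hH, hxW, hxH, hxK⟩ := exists_moved h hK (fun hle => not_both s hK hle hW)
  obtain ⟨a, haH, haR, ha1⟩ := lines_meet h hH hR
  obtain ⟨L, hL, haL⟩ := exists_colour h (a := a) ⟨hR.1 haR, ha1⟩
  have hxL : x ∈ L := haL (le_theta h (W_mem h) hH.1 haH ha1 ⟨hxW, hxH⟩)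
  have hLt : O t L ≠ ⊥ := fun e =>
    hKt (le_bot_iff.1 ((le_inf le_rfl (hUθ a haR ha1 L haL)).trans (hUq L hL e).le))
  have hLq : O q L = ⊥ := not_not.1 fun e => hxK (huniq L hL e hLt ▸ hxL)
  refine moved s hall hK hKq hKt huniq (fun N hN hNq => ?_) hfpf hL hLq ?_ hxW hxL hxK
  · exact bot_of_cent s hN hNq inf_le_right ((O_isPGroup (K := K)).to_le inf_le_left)
      (O_commute s.ne inf_le_left le_rfl inf_le_right ((O_le_W h hN).trans hW))
  · exact zimg s hall hK hKq O_isPGroup ((O_le_W h hL).trans hW) inf_le_left (inf_le_right.trans (D_O hL))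

/-- Distinct members with two cores have trivially meeting `t`-cores. -/
theorem meet_eq (s : Two p A θ q t) [Fact q.Prime] [Fact t.Prime] (hall : AllType p A θ q t)
    (hallt : AllType p A θ t q) {K K' : Subgroup G} (hK : MM p A θ K) (hKq : O q K ≠ ⊥) (hKt : O t K ≠ ⊥)
    (hK' : MM p A θ K') (hK'q : O q K' ≠ ⊥) (hK't : O t K' ≠ ⊥) (hmeet : O t K ⊓ O t K' ≠ ⊥) : K = K' := by
  have h := s.ctx
  let Bad : Set (Subgroup G) := {I | ∃ L L', (MM p A θ L ∧ O q L ≠ ⊥ ∧ O t L ≠ ⊥) ∧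
    (MM p A θ L' ∧ O q L' ≠ ⊥ ∧ O t L' ≠ ⊥) ∧ L ≠ L' ∧ I = O t L ⊓ O t L' ∧ I ≠ ⊥}
  by_contra hne
  obtain ⟨I, ⟨L, L', ⟨hL, hLq, hLt⟩, ⟨hL', hL'q, hL't⟩, hLL, hIe, hI1⟩, hmax⟩ :=
    (Set.toFinite Bad).exists_maximal
      ⟨_, K, K', ⟨hK, hKq, hKt⟩, ⟨hK', hK'q, hK't⟩, hne, rfl, hmeet⟩
  have hIm : Mem p A θ I := by
    rw [hIe]; exact mem_sub h (O_mem h hL.1) inf_le_left (le_normalizer_inf (A_O h hL) (A_O h hL'))
  obtain ⟨N, hN, hIN, hN'⟩ := exists_MM_normalizer h hIm hI1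
    (by rw [hIe]; exact le_normalizer_inf (D_O hL) (D_O hL'))
  have hIL : I ≤ O t L := hIe ▸ inf_le_left
  have hIL' : I ≤ O t L' := hIe ▸ inf_le_right
  have hNt : O t N ≠ ⊥ := fun e =>
    hI1 (le_bot_iff.1 ((le_inf hIL hIN).trans (U_inf_qtype s hall hL hLq hN e).le))
  have hVN : O q L ≤ N := hN' _ (O_mem h hL.1) ((Subgroup.le_centralizer_iff.mp
    (hIL.trans (O_centralizes_own s.ne.symm))).trans (centralizer_le_normalizer _))
  have hNq : O q N ≠ ⊥ := fun e =>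
    hLq (le_bot_iff.1 ((le_inf le_rfl hVN).trans (U_inf_qtype s.symm hallt hL hLt hN e).le))
  have claim : ∀ {L L' : Subgroup G}, MM p A θ L → O q L ≠ ⊥ → O t L ≠ ⊥ → MM p A θ L' → O q L' ≠ ⊥ →
      L ≠ L' → I = O t L ⊓ O t L' → N = L := by
    intro L L' hL hLq hLt hL' hL'q hne hIe
    by_contra hNL
    have hnorm : O t L ⊓ normalizer (I : Set G) ≤ O t L ⊓ O t N :=
      le_inf inf_le_left ((le_inf inf_le_left (hN' _ (mem_sub h (O_mem h hL.1) inf_le_left
        (le_normalizer_inf (A_O h hL) (le_normalizer_normalizer (mem_normalizes hIm)))) inf_le_right)).trans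
          (U_inf_le s hall hL hLq hN hNq))
    have hIJ : I ≤ O t L ⊓ O t N :=
      (le_inf (hIe ▸ inf_le_left) Subgroup.le_normalizer).trans hnorm
    have hJ : O t L ⊓ O t N ∈ Bad := ⟨L, N, ⟨hL, hLq, hLt⟩, ⟨hN, hNq, hNt⟩, fun e => hNL e.symm, rfl,
      fun e => hI1 (le_bot_iff.1 (e ▸ hIJ))⟩
    have e := eq_of_normalizer_le O_isPGroup (hIe ▸ inf_le_left) (hnorm.trans (hmax hJ hIJ))
    have hle : O t L ≤ O t L' := e ▸ (hIe ▸ inf_le_right)
    refine hne (eq_of_core_eq h hL hL' hLt ?_).symm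
    refine (eq_of_normalizer_le O_isPGroup hle ?_).symm
    refine (le_inf inf_le_left ?_).trans (U_inf_le s hall hL' hL'q hL hLq)
    exact le_of_normalizes_O h hL hLt (mem_sub h (O_mem h hL'.1) inf_le_left
      (le_normalizer_inf (A_O h hL') (le_normalizer_normalizer (A_O h hL)))) inf_le_right
  exact hLL ((claim hL hLq hLt hL' hL'q hLL hIe).symm.trans
    (claim hL' hL'q hL't hL hLq hLL.symm (hIe.trans (inf_comm _ _))))

/-- The points without `t`-core are not collinear: then no element of `W q` moves. -/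
theorem not_collinear (s : Two p A θ q t) [Fact q.Prime] [Fact t.Prime] (hall : AllType p A θ q t)
    (hallt : AllType p A θ t q) {K : Subgroup G} (hK : MM p A θ K) (hKq : O q K ≠ ⊥) (hKt : O t K ≠ ⊥)
    (huniq : ∀ N, MM p A θ N → O q N ≠ ⊥ → O t N ≠ ⊥ → N = K)
    (hnc : ∀ H, Line p A H → ∃ a, Pt A a ∧ (∃ L, MM p A θ L ∧ θ a ≤ L ∧ O t L = ⊥) ∧ a ∉ H) : False := by
  have h := s.ctx
  set S : Set G := {a | Pt A a ∧ ∃ L, MM p A θ L ∧ θ a ≤ L ∧ O t L = ⊥} with hS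
  have hSA : S ⊆ A := fun a ha => ha.1.1
  have hAS : A ≤ Subgroup.closure S := by
    by_contra hn
    obtain ⟨H, hH, hle⟩ := line_of_proper h ((Subgroup.closure_le _).2 hSA) (fun e => hn e.ge)
    obtain ⟨a, ha, hL, haH⟩ := hnc H hH
    exact haH (hle (Subgroup.subset_closure ⟨ha, hL⟩))
  have hfpf : O t K ⊓ centralizer ((ZOm q (W p A θ q) ⊓ DD A θ : Subgroup G) : Set G) = ⊥ :=
    le_bot_iff.1 ((le_inf inf_le_left (split_fix h (A_O h hK) hSA hAS (by
      rintro a ⟨ha, L, hL, haL, hLt⟩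
      exact point_fix s hall hK hKq ha hL haL hLt))).trans (U_cent_Z s hall hK hKq).le)
  obtain ⟨R, hR, hUR⟩ := exists_piece h (O_mem h hK.1) hKt
  obtain ⟨Sl, hSl, hVS⟩ := exists_piece h (O_mem h hK.1) hKq
  have hWK : ¬ W p A θ q ≤ K := fun hle => hKt (hall K hK hle)
  obtain ⟨H, x, hH, hxW, hxH, hxK⟩ := exists_moved h hK hWK
  obtain ⟨a, haH, haR, ha1⟩ := lines_meet h hH hR
  obtain ⟨L, hL, haL⟩ := exists_colour h (a := a) ⟨hR.1 haR, ha1⟩
  have hxL : x ∈ L := haL (le_theta h (W_mem h) hH.1 haH ha1 ⟨hxW, hxH⟩)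
  have hLt : O t L ≠ ⊥ := fun e => hUR (le_bot_iff.1 ((le_inf inf_le_left
    ((le_theta h (O_mem h hK.1) hR.1 haR ha1).trans haL)).trans (U_inf_qtype s hall hK hKq hL e).le))
  have hLq : O q L = ⊥ := not_not.1 fun e => hxK (huniq L hL e hLt ▸ hxL)
  refine moved s hall hK hKq hKt huniq (fun N hN hNq => U_inf_qtype s.symm hallt hK hKt hN hNq) hfpf hL hLq ?_
    hxW hxL hxK
  set Z₀ := ZOm q (W p A θ q) ⊓ DD A θ with hZ₀
  have hZL : Z₀ ≤ L := inf_le_right.trans hL.2.1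
  have hAZ : A ≤ normalizer (Z₀ : Set G) := le_normalizer_inf (A_Z h) (mem_normalizes (dd_mem h))
  set Y := ⁅O t L, Z₀⁆ with hY
  have hZO : Z₀ ≤ normalizer (O t L : Set G) := hZL.trans O_normal
  have hYL : Y ≤ O t L := commutator_le_of_le_normalizer hZO
  have hYm : Mem p A θ Y := mem_sub h (O_mem h hL.1) hYL (le_normalizer_commutator' (A_O h hL) hAZ)
  have hYp : IsPGroup t Y := O_isPGroup.to_le hYL
  have hZY : Z₀ ≤ normalizer (Y : Set G) := le_normalizer_commutator' hZO Subgroup.le_normalizer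
  have hcop : (Nat.card Z₀).Coprime (Nat.card (O t L)) :=
    IsPGroup.coprime_card_of_ne q t s.ne _ _ ((Z_pgroup h).to_le inf_le_left) O_isPGroup
  have hYY : Y ≤ ⁅Y, Z₀⁆ := (coprime_commutator_commutator hZO hcop
    (Or.inr (by haveI := (O_isPGroup (q := t) (K := L)).isNilpotent; infer_instance))).ge
  have hYK : Y ≤ K := by
    refine (frattini_gen hYp hYY hZY (S := Y ⊓ K) inf_le_left
      (le_normalizer_inf hZY (inf_le_right.trans hK.2.1 |>.trans Subgroup.le_normalizer)) ?_).trans inf_le_right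
    refine le_of_lines h hYm fun H' hH' => ?_
    obtain ⟨e, heH, heS, he1⟩ := lines_meet h hH' hSl
    obtain ⟨L', hL', heL⟩ := exists_colour h (a := e) ⟨hSl.1 heS, he1⟩
    have hYL' : Y ⊓ centralizer (H' : Set G) ≤ L' := (le_theta h hYm hH'.1 heH he1).trans heL
    have hL'q : O q L' ≠ ⊥ := fun e0 => hVS (le_bot_iff.1 ((le_inf inf_le_left
      ((le_theta h (O_mem h hK.1) hSl.1 heS he1).trans heL)).trans (U_inf_qtype s.symm hallt hK hKt hL' e0).le))
    by_cases hL't : O t L' = ⊥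
    · refine (le_inf inf_le_left ?_).trans le_sup_right
      exact O_commute s.ne.symm (inf_le_left.trans hYL)
        (inf_le_left.trans (ZOm_W_le_O h hL' hL'q (single_q s hL' hL't))) hYL' hZL
    · rw [huniq L' hL' hL'q hL't] at hYL'
      exact (le_inf inf_le_left hYL').trans le_sup_left
  exact hYY.trans (zimg s hall hK hKq hYp hYK inf_le_left hZY)

/-- A member with two cores, but none of them contains `W t`. -/
theorem multi_out (s : Two p A θ q t) [Fact q.Prime] [Fact t.Prime] (hall : AllType p A θ q t)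
    (hallt : AllType p A θ t q) {K : Subgroup G} (hK : MM p A θ K) (hKq : O q K ≠ ⊥) (hKt : O t K ≠ ⊥) :
    False := by
  have h := s.ctx
  obtain ⟨R, hR, hUR⟩ := exists_piece h (O_mem h hK.1) hKt
  have huniq : ∀ N, MM p A θ N → O q N ≠ ⊥ → O t N ≠ ⊥ → N = K := by
    intro N hN hNq hNt
    obtain ⟨Sl, hSl, hVS⟩ := exists_piece h (O_mem h hN.1) hNq
    obtain ⟨a, haR, haS, ha1⟩ := lines_meet h hR hSl
    obtain ⟨L, hL, haL⟩ := exists_colour h (a := a) ⟨hR.1 haR, ha1⟩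
    have hUL : O t K ⊓ centralizer (R : Set G) ≤ O t K ⊓ L :=
      le_inf inf_le_left ((le_theta h (O_mem h hK.1) hR.1 haR ha1).trans haL)
    have hVL : O q N ⊓ centralizer (Sl : Set G) ≤ O q N ⊓ L :=
      le_inf inf_le_left ((le_theta h (O_mem h hN.1) hSl.1 haS ha1).trans haL)
    have hLt : O t L ≠ ⊥ := fun e => hUR (le_bot_iff.1 (hUL.trans (U_inf_qtype s hall hK hKq hL e).le))
    have hLq : O q L ≠ ⊥ := fun e => hVS (le_bot_iff.1 (hVL.trans (U_inf_qtype s.symm hallt hN hNt hL e).le))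
    have e1 : K = L := meet_eq s hall hallt hK hKq hKt hL hLq hLt fun e =>
      hUR (le_bot_iff.1 (hUL.trans ((U_inf_eq s hall hK hKq hL hLq).le.trans e.le)))
    have e2 : N = L := meet_eq s.symm hallt hall hN hNt hNq hL hLt hLq fun e =>
      hVS (le_bot_iff.1 (hVL.trans ((U_inf_eq s.symm hallt hN hNt hL hLt).le.trans e.le)))
    rw [e1, e2]
  by_cases hq : ∀ H, Line p A H → ∃ a, Pt A a ∧ (∃ L, MM p A θ L ∧ θ a ≤ L ∧ O t L = ⊥) ∧ a ∉ H
  · exact not_collinear s hall hallt hK hKq hKt huniq hq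
  by_cases ht : ∀ H, Line p A H → ∃ a, Pt A a ∧ (∃ L, MM p A θ L ∧ θ a ≤ L ∧ O q L = ⊥) ∧ a ∉ H
  · exact not_collinear s.symm hallt hall hK hKt hKq (fun N hN a b => huniq N hN b a) ht
  push Not at hq ht
  obtain ⟨Lq, hLq, hq⟩ := hq
  obtain ⟨Lt, hLt, ht⟩ := ht
  obtain ⟨b, hbq, hbt, hb1⟩ := lines_meet h hLq hLt
  refine pencil h hK.1 (b := b) ⟨hLq.1 hbq, hb1⟩ fun H hH hbH => ?_
  have hne : ∀ {S : Subgroup G}, Line p A S → b ∈ S → ¬ H ≤ S := fun {S} hS hbS hle => hbH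
    ((Subgroup.eq_of_le_of_card_ge hle (by rw [hH.2, hS.2])).ge hbS)
  obtain ⟨x, hx, hxq⟩ := SetLike.not_le_iff_exists.1 (hne hLq hbq)
  obtain ⟨y, hy, hyt⟩ := SetLike.not_le_iff_exists.1 (hne hLt hbt)
  obtain ⟨c, hc, hcq, hct⟩ : ∃ c ∈ H, c ∉ Lq ∧ c ∉ Lt := by
    by_cases hxt : x ∈ Lt
    · by_cases hyq : y ∈ Lq
      · refine ⟨x * y, mul_mem hx hy, fun hm => hxq ?_, fun hm => hyt ?_⟩
        · exact (Subgroup.mul_mem_cancel_right Lq hyq).1 hm
        · exact (Subgroup.mul_mem_cancel_left Lt hxt).1 hm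
      · exact ⟨y, hy, hyq, hyt⟩
    · exact ⟨x, hx, hxq, hxt⟩
  have hc1 : c ≠ 1 := fun e => hcq (e ▸ one_mem _)
  have hcA : Pt A c := ⟨hH.1 hc, hc1⟩
  obtain ⟨L, hL, hcL⟩ := exists_colour h hcA
  have hLt' : O t L ≠ ⊥ := fun e => hcq (hq c hcA ⟨L, hL, hcL, e⟩)
  have hLq' : O q L ≠ ⊥ := fun e => hct (ht c hcA ⟨L, hL, hcL, e⟩)
  rw [huniq L hL hLq' hLt'] at hcL
  exact (iInf_le (fun x : {x : G // x ∈ H ∧ x ≠ 1} => θ (x : G)) ⟨c, hc, hc1⟩).trans hcL

end CfsgLib.SolvSF.Two
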