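import Cfsg.Agent.Lib.SolvSF.Two.Base
import Cfsg.Agent.Lib.SolvSF.Engine

/-!
Every maximal member has one core only.
-/

set_option autoImplicit false
set_option linter.unusedSectionVars false
set_option linter.style.haveILetI false

namespace CfsgLib.SolvSF.Two

open Cfsg Subgroup CfsgLib.Signalizer CfsgLib.SolvSF
open scoped commutatorElement

universe u
variable {G : Type u} [Group G] [Finite G] {p : ℕ} [Fact p.Prime] {A : Subgroup G} {θ : G → Subgroup G} {q t : ℕ}

/-- A subgroup of every `q`-core meets a member without `q`-core trivially if every line has a `q`-point. -/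
theorem etrick (s : Two p A θ q t) [Fact q.Prime] [Fact t.Prime]
    (hline : ∀ H, Line p A H → ∃ e ∈ H, e ≠ 1 ∧ NonLack p A θ q e)
    {K Y : Subgroup G} (hK : MM p A θ K) (hO : O q K = ⊥) (hY : IsPGroup q Y) (hYK : Y ≤ K)
    (hYO : ∀ L, MM p A θ L → O q L ≠ ⊥ → Y ≤ O q L) : Y = ⊥ := by
  have h := s.ctx
  refine bot_of_cent s hK hO hYK hY (Subgroup.le_centralizer_iff.mp (le_of_lines h (O_mem h hK.1) fun H hH => ?_))
  obtain ⟨e, he, he1, L, hL, heL, hLq⟩ := hline H hH
  exact O_commute s.ne.symm inf_le_left (hYO L hL hLq) ((le_theta h (O_mem h hK.1) hH.1 he he1).trans heL) hYK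

/-- A `t`-subgroup of a `q`-type member centralising `[O_q, R]` is centralised by `R`. -/
theorem twist_trivial (s : Two p A θ q t) [Fact q.Prime] [Fact t.Prime] {K R B : Subgroup G}
    (hK : MM p A θ K) (hKt : O t K = ⊥) (hR : R ≤ A) (hB : IsPGroup t B) (hBK : B ≤ K)
    (hRB : R ≤ normalizer (B : Set G))
    (hN : B ≤ centralizer ((⁅O q K, R⁆ : Subgroup G) : Set G)) : R ≤ centralizer (B : Set G) := by
  have h := s.ctx
  have hcR : (Nat.card R).Coprime (Nat.card (O q K)) :=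
    Nat.Coprime.coprime_dvd_left (Subgroup.card_dvd_of_le hR) (ea_coprime h.hA (O_mem h hK.1).2.1)
  have hcB : (Nat.card B).Coprime (Nat.card (O q K)) :=
    IsPGroup.coprime_card_of_ne t q s.ne.symm _ _ hB O_isPGroup
  intro a ha b hb
  have hc : a * b * a⁻¹ * b⁻¹ ∈ B ⊓ centralizer (O q K : Set G) :=
    ⟨B.mul_mem ((Subgroup.mem_normalizer_iff.mp (hRB ha) b).mp hb) (B.inv_mem hb),
      twist O_isPGroup (hBK.trans O_normal) (hR.trans (A_O h hK)) hRB hcR hcB hN hb ha⟩
  have hbot : B ⊓ centralizer (O q K : Set G) = ⊥ :=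
    bot_of_cent s.symm hK hKt (inf_le_left.trans hBK) (hB.to_le inf_le_left) inf_le_right
  rw [hbot, Subgroup.mem_bot, mul_inv_eq_one, mul_inv_eq_iff_eq_mul] at hc
  exact hc.symm

/-- Exactly one line consists of `q`-points only. -/
theorem one_line (s : Two p A θ q t) [Fact q.Prime] [Fact t.Prime] (hallt : AllType p A θ t q)
    (hsimp : ∀ K, MM p A θ K → O q K = ⊥ ∨ O t K = ⊥) {R : Subgroup G} (hR : Line p A R)
    (hRt : ∀ a ∈ R, a ≠ 1 → ¬ NonLack p A θ t a)
    (huniq : ∀ H, Line p A H → H ≠ R → ∃ e ∈ H, e ≠ 1 ∧ NonLack p A θ t e) : False := by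
  have h := s.ctx
  have hp := (Fact.out : p.Prime)
  set Zt := ZOm t (W p A θ t) with hZt
  -- colours on `R`
  have hcol : ∀ a ∈ R, a ≠ 1 → ∃ K, MM p A θ K ∧ θ a ≤ K ∧ O t K = ⊥ := by
    intro a ha ha1
    obtain ⟨K, hK, haK⟩ := exists_colour h (a := a) ⟨hR.1 ha, ha1⟩
    exact ⟨K, hK, haK, not_not.1 fun hne => hRt a ha ha1 ⟨K, hK, haK, hne⟩⟩
  -- in a `q`-type member `Z_t` centralises `[O_q, R]`
  have hZN : ∀ K, MM p A θ K → O t K = ⊥ →
      Zt ⊓ K ≤ centralizer ((⁅O q K, R⁆ : Subgroup G) : Set G) := by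
    intro K hK hKt
    set B := Zt ⊓ K
    set Y := ⁅O q K, R⁆ with hY
    have hRE : R ≤ normalizer (O q K : Set G) := hR.1.trans (A_O h hK)
    have hYE : Y ≤ O q K := commutator_le_of_le_normalizer hRE
    have hAY : A ≤ normalizer (Y : Set G) :=
      le_normalizer_commutator' (A_O h hK) (A_normalizes_sub h hR.1)
    have hYm : Mem p A θ Y := mem_sub h (O_mem h hK.1) hYE hAY
    have hAB : A ≤ normalizer (B : Set G) := le_normalizer_inf (A_Z h) (mem_normalizes hK.1)
    have hYp : IsPGroup q Y := O_isPGroup.to_le hYE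
    have hcop : (Nat.card R).Coprime (Nat.card (O q K)) :=
      Nat.Coprime.coprime_dvd_left (Subgroup.card_dvd_of_le hR.1) (ea_coprime h.hA (O_mem h hK.1).2.1)
    have hYR : Y ≤ ⁅Y, R⁆ :=
      (coprime_commutator_commutator hRE hcop
        (Or.inr (by haveI := (O_isPGroup (q := q) (K := K)).isNilpotent; infer_instance))).ge
    have hY' : Y ≤ Y ⊓ centralizer (B : Set G) := by
      refine frattini_gen hYp hYR (hR.1.trans hAY) inf_le_left
        (hR.1.trans (le_normalizer_inf hAY (le_normalizer_centralizer' hAB))) ?_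
      refine le_of_lines h hYm fun H hH => ?_
      by_cases hHR : H = R
      · rw [hHR]; exact le_sup_right
      · refine le_trans (le_inf inf_le_left ?_) le_sup_left
        obtain ⟨e, he, he1, L, hL, heL, hLt⟩ := huniq H hH hHR
        have hLq : O q L = ⊥ := (hsimp L hL).resolve_right hLt
        exact O_commute s.ne (inf_le_left.trans hYE)
          (inf_le_left.trans (ZOm_W_le_O h hL hLt (single_q s.symm hL hLq)))
          ((le_theta h hYm hH.1 he he1).trans heL) inf_le_right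
    exact Subgroup.le_centralizer_iff.mp (hY'.trans inf_le_right)
  -- `R` centralises `Z_t`
  have hRZ : R ≤ centralizer (Zt : Set G) := by
    refine Subgroup.le_centralizer_iff.mp (le_of_lines h (Z_mem h) fun H hH => ?_)
    by_cases hHR : H = R
    · rw [hHR]; exact inf_le_right
    obtain ⟨d, hdH, hdR, hd1⟩ := lines_meet h hH hR
    obtain ⟨K, hK, hdK, hKt⟩ := hcol d hdR hd1
    have hle : Zt ⊓ centralizer (H : Set G) ≤ Zt ⊓ K :=
      le_inf inf_le_left ((le_theta h (Z_mem h) hH.1 hdH hd1).trans hdK)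
    exact hle.trans (Subgroup.le_centralizer_iff.mp (twist_trivial s hK hKt hR.1 ((Z_pgroup h).to_le inf_le_left)
      inf_le_right (hR.1.trans (le_normalizer_inf (A_Z h) (mem_normalizes hK.1))) (hZN K hK hKt)))
  have hZK : ∀ a ∈ R, a ≠ 1 → ∀ K, θ a ≤ K → Zt ≤ K := fun a ha ha1 K hK =>
    (le_inf le_rfl (Subgroup.le_centralizer_iff.mp hRZ)).trans ((le_theta h (Z_mem h) hR.1 ha ha1).trans hK)
  obtain ⟨G', hG', hWG', hG''⟩ :=
    M_of_center h (Z_mem h) (Z_ne s.symm hallt) (D_Z h) W_le_cent_Z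
  have hG'q : O q G' = ⊥ := hallt G' hG' hWG'
  refine fix_line h hG' hR fun r hr => ?_
  by_cases e : r = t
  swap
  · rw [single_q s.symm hG' hG'q r hr e]; exact bot_le
  rw [e]
  refine le_of_lines h (O_mem h hG'.1) fun H hH => ?_
  by_cases hHR : H = R
  · rw [hHR]; exact inf_le_right
  obtain ⟨d, hdH, hdR, hd1⟩ := lines_meet h hH hR
  obtain ⟨K, hK, hdK, hKt⟩ := hcol d hdR hd1
  set B := O t G' ⊓ K
  have hN : ⁅O q K, R⁆ ≤ G' := by
    have hRE : R ≤ normalizer (O q K : Set G) := hR.1.trans (A_O h hK)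
    have hle : ⁅O q K, R⁆ ≤ O q K := commutator_le_of_le_normalizer hRE
    refine hG'' _ (mem_sub h (O_mem h hK.1) hle (le_normalizer_commutator' (A_O h hK)
      (A_normalizes_sub h hR.1))) ?_
    have h1 := hZN K hK hKt
    rw [inf_eq_left.2 (hZK d hdR hd1 K hdK)] at h1
    exact (Subgroup.le_centralizer_iff.mp h1).trans (centralizer_le_normalizer _)
  have hBN : B ≤ centralizer ((⁅O q K, R⁆ : Subgroup G) : Set G) :=
    O_commute s.ne.symm inf_le_left (commutator_le_of_le_normalizer (hR.1.trans (A_O h hK))) inf_le_right hN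
  have hle : O t G' ⊓ centralizer (H : Set G) ≤ B :=
    le_inf inf_le_left ((le_theta h (O_mem h hG'.1) hH.1 hdH hd1).trans hdK)
  exact hle.trans (Subgroup.le_centralizer_iff.mp (twist_trivial s hK hKt hR.1
    ((O_isPGroup (K := G')).to_le inf_le_left) inf_le_right
    (hR.1.trans (le_normalizer_inf (A_O h hG') (mem_normalizes hK.1))) hBN))

/-- The case in which every line has a `q`-point. -/
theorem simple_aux (s : Two p A θ q t) [Fact q.Prime] [Fact t.Prime] (hall : AllType p A θ q t)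
    (hallt : AllType p A θ t q) (hsimp : ∀ K, MM p A θ K → O q K = ⊥ ∨ O t K = ⊥)
    (hline : ∀ H, Line p A H → ∃ e ∈ H, e ≠ 1 ∧ NonLack p A θ q e) : False := by
  have h := s.ctx
  have hallq : ∀ K, MM p A θ K → W p A θ q ≤ K → O q K ≠ ⊥ := fun K hK hW => one_core s hK (hall K hK hW)
  have hT : T0 p A θ q ≠ ⊥ := fun e => Z_ne s hall (le_bot_iff.1 (e ▸ Z_le_T0 s hall))
  have hE2 : ∀ K, MM p A θ K → O q K ≠ ⊥ → ∀ r : ℕ, r.Prime → r ≠ q →
      T0 p A θ q ⊓ K ≤ centralizer (O r K : Set G) := by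
    intro K hK hKq r hr hrq
    rw [single_q s hK ((hsimp K hK).resolve_left hKq) r hr hrq]
    exact fun x _ y hy => by
      rw [Subgroup.coe_bot, Set.mem_singleton_iff] at hy
      rw [hy, one_mul, mul_one]
  have hZlack : ∀ K, MM p A θ K → O q K = ⊥ → ¬ ZOm q (W p A θ q) ≤ K := fun K hK hKq hZK =>
    Z_ne s hall (etrick s hline hK hKq (Z_pgroup h) hZK fun L hL hLq =>
      ZOm_W_le_O h hL hLq (single_q s hL ((hsimp L hL).resolve_left hLq)))
  have hlift := lift h hallq hT hE2 hZlack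
  have hTK : ∀ K, MM p A θ K → O q K = ⊥ → T0 p A θ q ⊓ K = ⊥ := fun K hK hKq =>
    etrick s hline hK hKq ((W_isPGroup h).to_le (inf_le_left.trans inf_le_left)) inf_le_right
      fun L hL hLq => inf_le_left.trans (hlift L hL hLq)
  have hE : EngineHyp p A θ q := engineHyp_of h (W_q_ne s hall) hallq hT hE2 hTK hZlack
  by_cases hno : ∃ R, Line p A R ∧ ∀ a ∈ R, a ≠ 1 → ¬ NonLack p A θ t a
  swap
  · refine engine h hE (Y := T0 p A θ q) hE.qual fun H hH hle => ?_
    push Not at hno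
    obtain ⟨a, ha, ha1, K, hK, haK, hKt⟩ := hno H hH
    have hTle : T0 p A θ q ≤ K :=
      (le_inf le_rfl hle).trans ((le_theta h (T0_mem h) hH.1 ha ha1).trans haK)
    exact hT ((inf_eq_left.2 hTle).symm.trans (hTK K hK ((hsimp K hK).resolve_right hKt)))
  obtain ⟨R, hR, hRt⟩ := hno
  by_cases huniq : ∀ H, Line p A H → H ≠ R → ∃ e ∈ H, e ≠ 1 ∧ NonLack p A θ t e
  · exact one_line s hallt hsimp hR hRt huniq
  push Not at huniq
  obtain ⟨R₂, hR₂, hne, hR₂t⟩ := huniq
  -- the distinguished point of a bad line lies on both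
  obtain ⟨b, hbR, hbR₂, hb1⟩ := lines_meet h hR hR₂
  obtain ⟨M, hM, -, hM'⟩ := exists_MM_normalizer h (T0_mem h) hT (dd_normalizes_T0 h)
  refine pencil h hM.1 (b := b) ⟨hR.1 hbR, hb1⟩ fun H hH hbH => ?_
  have hgood : signalizerInf H θ ≤ normalizer (T0 p A θ q : Set G) := by
    by_contra hbad
    obtain ⟨d, hd, hd1, -, -, hlack⟩ := bad_line h hE hH hbad
    have hin : ∀ {S : Subgroup G}, Line p A S → (∀ a ∈ S, a ≠ 1 → ¬ NonLack p A θ t a) → d ∈ S := by
      intro S hS hSt
      obtain ⟨a, haH, haS, ha1⟩ := lines_meet h hH hS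
      obtain ⟨K, hK, haK⟩ := exists_colour h (a := a) ⟨hS.1 haS, ha1⟩
      have hKt : O t K = ⊥ := not_not.1 fun hne => hSt a haS ha1 ⟨K, hK, haK, hne⟩
      have had : a ∈ zpowers d := not_not.1 fun hn => hlack a haH hn ⟨K, hK, haK, one_core s hK hKt⟩
      have e : zpowers a = zpowers d := Subgroup.eq_of_le_of_card_ge (Subgroup.zpowers_le.2 had) (by
        rw [Nat.card_zpowers, Nat.card_zpowers, orderOf_eq_prime_of_ea h.hA (hH.1 haH) ha1,
          orderOf_eq_prime_of_ea h.hA (hH.1 hd) hd1])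
      exact Subgroup.zpowers_le.2 haS (e ▸ mem_zpowers d)
    have hdR := hin hR hRt
    have hdR₂ := hin hR₂ hR₂t
    -- two distinct lines share one subgroup of order `p` only
    have hcard : Nat.card ↥(R ⊓ R₂) ≤ p := by
      obtain ⟨i, hi, hc⟩ := (Nat.dvd_prime_pow (Fact.out : p.Prime)).1
        (hR.2 ▸ Subgroup.card_dvd_of_le (inf_le_left : R ⊓ R₂ ≤ R))
      have hi2 : i ≠ 2 := by
        intro e
        rw [e] at hc
        have h1 : R ⊓ R₂ = R := Subgroup.eq_of_le_of_card_ge inf_le_left (by rw [hR.2, hc])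
        exact hne (Subgroup.eq_of_le_of_card_ge (inf_eq_left.1 h1) (by rw [hR.2, hR₂.2])).symm
      rw [hc]
      calc p ^ i ≤ p ^ 1 := Nat.pow_le_pow_right (Fact.out : p.Prime).pos (by omega)
        _ = p := pow_one p
    have e : zpowers d = R ⊓ R₂ := Subgroup.eq_of_le_of_card_ge
      (Subgroup.zpowers_le.2 ⟨hdR, hdR₂⟩)
      (by rw [Nat.card_zpowers, orderOf_eq_prime_of_ea h.hA (hH.1 hd) hd1]; exact hcard)
    exact hbH (Subgroup.zpowers_le.2 hd (e ▸ (⟨hbR, hbR₂⟩ : b ∈ R ⊓ R₂)))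
  exact hM' _ (inf_mem_family h.hA h.hθ hH.1 fun e => by
    have := hH.2
    rw [e, Subgroup.card_bot] at this
    exact (Nat.one_lt_pow (by norm_num) (Fact.out : p.Prime).one_lt).ne this) hgood

/-- Maximal members with one core only are impossible. -/
theorem simple (s : Two p A θ q t) [Fact q.Prime] [Fact t.Prime] (hall : AllType p A θ q t)
    (hallt : AllType p A θ t q) (hsimp : ∀ K, MM p A θ K → O q K = ⊥ ∨ O t K = ⊥) : False := by
  have h := s.ctx
  by_cases hline : ∀ H, Line p A H → ∃ e ∈ H, e ≠ 1 ∧ NonLack p A θ q e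
  · exact simple_aux s hall hallt hsimp hline
  refine simple_aux s.symm hallt hall (fun K hK => (hsimp K hK).symm) fun H hH => ?_
  push Not at hline
  obtain ⟨S, hS, hSq⟩ := hline
  obtain ⟨a, haH, haS, ha1⟩ := lines_meet h hH hS
  obtain ⟨K, hK, haK⟩ := exists_colour h (a := a) ⟨hS.1 haS, ha1⟩
  exact ⟨a, haH, ha1, K, hK, haK, one_core s.symm hK (not_not.1 fun hne => hSq a haS ha1 ⟨K, hK, haK, hne⟩)⟩

end CfsgLib.SolvSF.Two
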