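import Cfsg.Agent.Lib.SolvSF.Two.Tools
import Cfsg.Agent.Lib.SolvSF.Lift

/-!
The basic facts about the cores of the maximal members when there are two primes.
-/

set_option autoImplicit false
set_option linter.unusedSectionVars false
set_option linter.style.haveILetI false

namespace CfsgLib.SolvSF.Two

open Cfsg Subgroup CfsgLib.Signalizer CfsgLib.SolvSF
open scoped commutatorElement

universe u
variable {G : Type u} [Group G] [Finite G] {p : ℕ} [Fact p.Prime] {A : Subgroup G} {θ : G → Subgroup G}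

/-- The setting of two primes. -/
structure Two (p : ℕ) (A : Subgroup G) (θ : G → Subgroup G) (q t : ℕ) : Prop where
  ctx : Ctx p A θ
  noTop : NoTop p A θ
  prq : Pr A θ q
  prt : Pr A θ t
  ne : q ≠ t
  only : ∀ r, Pr A θ r → r = q ∨ r = t

variable {q t : ℕ}

theorem Two.symm (s : Two p A θ q t) : Two p A θ t q :=
  ⟨s.ctx, s.noTop, s.prt, s.prq, s.ne.symm, fun r hr => (s.only r hr).symm⟩

theorem O_bot_other (s : Two p A θ q t) {K : Subgroup G} (hK : MM p A θ K) {r : ℕ} (hr : r.Prime)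
    (hq : r ≠ q) (ht : r ≠ t) : O r K = ⊥ := by
  haveI := Fact.mk hr
  by_contra hO
  exact ((s.only r (pr_of_O s.ctx hr hK hO)).elim hq ht)

theorem one_core (s : Two p A θ q t) {K : Subgroup G} (hK : MM p A θ K) (hO : O t K = ⊥) : O q K ≠ ⊥ := by
  intro e
  obtain ⟨r, hr, hrP, hO'⟩ := exists_O_ne_bot s.ctx hK
  rcases s.only r hrP with rfl | rfl
  · exact hO' e
  · exact hO' hO

/-- A `q`-subgroup centralising the only core, which is a `t`-core, is trivial. -/
theorem bot_of_cent (s : Two p A θ q t) [Fact q.Prime] {K X : Subgroup G} (hK : MM p A θ K) (hO : O q K = ⊥)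
    (hXK : X ≤ K) (hX : IsPGroup q X) (hc : X ≤ centralizer (O t K : Set G)) : X = ⊥ :=
  eq_bot_of_centralizes s.ctx hK.1 hXK hX hO fun r hr hrq => by
    by_cases h : r = t
    · rw [h]; exact hc
    · rw [O_bot_other s hK hr hrq h]
      exact fun x _ y hy => by
        rw [Subgroup.coe_bot, Set.mem_singleton_iff] at hy
        rw [hy, one_mul, mul_one]

theorem single_q (s : Two p A θ q t) {K : Subgroup G} (hK : MM p A θ K) (hO : O t K = ⊥) :
    ∀ r : ℕ, r.Prime → r ≠ q → O r K = ⊥ := fun r hr hrq => by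
  by_cases h : r = t
  · rw [h]; exact hO
  · exact O_bot_other s hK hr hrq h

theorem O_inf_O {a b : ℕ} [Fact a.Prime] [Fact b.Prime] (hab : a ≠ b) {K L : Subgroup G} :
    O a K ⊓ O b L = ⊥ :=
  (Subgroup.disjoint_of_coprime_natCard (O_coprime hab)).eq_bot

theorem O_commute {a b : ℕ} [Fact a.Prime] [Fact b.Prime] (hab : a ≠ b) {K L X Y : Subgroup G}
    (hX : X ≤ O a K) (hY : Y ≤ O b L) (hXL : X ≤ L) (hYK : Y ≤ K) : X ≤ centralizer (Y : Set G) :=
  centralizes_cross (O_inf_O hab) hX hY (hXL.trans O_normal) (hYK.trans O_normal)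

theorem O_centralizes_own {a b : ℕ} [Fact a.Prime] [Fact b.Prime] (hab : a ≠ b) {K : Subgroup G} :
    O a K ≤ centralizer (O b K : Set G) :=
  O_commute hab le_rfl le_rfl O_le O_le

theorem A_O (h : Ctx p A θ) {r : ℕ} {K : Subgroup G} (hK : MM p A θ K) :
    A ≤ normalizer (O r K : Set G) :=
  mem_normalizes (O_mem h hK.1)

theorem D_O {r : ℕ} {K : Subgroup G} (hK : MM p A θ K) : DD A θ ≤ normalizer (O r K : Set G) :=
  hK.2.1.trans O_normal

theorem A_W (h : Ctx p A θ) {r : ℕ} [Fact r.Prime] : A ≤ normalizer (W p A θ r : Set G) :=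
  mem_normalizes (W_mem h)

theorem D_Z (h : Ctx p A θ) {r : ℕ} [Fact r.Prime] :
    DD A θ ≤ normalizer (ZOm r (W p A θ r) : Set G) :=
  (W_dd h).trans ZOm_normal

theorem Z_mem (h : Ctx p A θ) {r : ℕ} [Fact r.Prime] : Mem p A θ (ZOm r (W p A θ r)) :=
  ZOm_mem h (W_mem h)

theorem A_Z (h : Ctx p A θ) {r : ℕ} [Fact r.Prime] :
    A ≤ normalizer (ZOm r (W p A θ r) : Set G) :=
  mem_normalizes (Z_mem h)

theorem Z_le_W {r : ℕ} : ZOm r (W p A θ r) ≤ W p A θ r := ZOm_le.trans inf_le_left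

theorem W_le_cent_Z {r : ℕ} : W p A θ r ≤ centralizer (ZOm r (W p A θ r) : Set G) :=
  Subgroup.le_centralizer_iff.mp (ZOm_le.trans inf_le_right)

theorem Z_pgroup (h : Ctx p A θ) {r : ℕ} [Fact r.Prime] : IsPGroup r (ZOm r (W p A θ r)) :=
  (W_isPGroup h).to_le Z_le_W

/-- A maximal member containing `W q` and every member centralising a subgroup `N ≤ Z(W q)`. -/
theorem M_of_center (h : Ctx p A θ) {r : ℕ} [Fact r.Prime] {N : Subgroup G} (hN : Mem p A θ N) (hN1 : N ≠ ⊥)
    (hD : DD A θ ≤ normalizer (N : Set G)) (hc : W p A θ r ≤ centralizer (N : Set G)) :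
    ∃ M, MM p A θ M ∧ W p A θ r ≤ M ∧ ∀ X, Mem p A θ X → X ≤ normalizer (N : Set G) → X ≤ M := by
  obtain ⟨M, hM, -, hM'⟩ := exists_MM_normalizer h hN hN1 hD
  exact ⟨M, hM, hM' _ (W_mem h) (hc.trans (centralizer_le_normalizer _)), hM'⟩

/-- Every member of `𝒢_q` is of type `q`. -/
def AllType (p : ℕ) (A : Subgroup G) (θ : G → Subgroup G) (q t : ℕ) : Prop :=
  ∀ K, MM p A θ K → W p A θ q ≤ K → O t K = ⊥

/-- No member of `𝒢_t` is of type `q`. -/
def NoOther (p : ℕ) (A : Subgroup G) (θ : G → Subgroup G) (t : ℕ) : Prop :=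
  ∀ K, MM p A θ K → W p A θ t ≤ K → O t K ≠ ⊥

theorem exists_G (s : Two p A θ q t) [Fact q.Prime] : ∃ K, MM p A θ K ∧ W p A θ q ≤ K := by
  obtain ⟨M, hM, hM'⟩ := s.ctx.omitPrime t s.prt
  exact ⟨M, hM, hM' q Fact.out s.ne⟩

theorem not_both (s : Two p A θ q t) {K : Subgroup G} (hK : MM p A θ K) (hq : W p A θ q ≤ K) :
    ¬ W p A θ t ≤ K := fun ht => s.noTop ⟨K, hK, fun r hr => by
  haveI := Fact.mk hr
  by_cases hr' : Pr A θ r
  · rcases s.only r hr' with rfl | rfl
    · exact hq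
    · exact ht
  · rw [W_eq_bot_of_not_pr s.ctx hr']; exact bot_le⟩

/-- `T₀ ≥ Z(W q)` when `𝒢_q` consists of `q`-types. -/
theorem Z_le_T0 (s : Two p A θ q t) [Fact q.Prime] (hall : AllType p A θ q t) :
    ZOm q (W p A θ q) ≤ T0 p A θ q :=
  le_inf Z_le_W (le_iInf fun ⟨K, hK, hW⟩ =>
    ZOm_W_le_O s.ctx hK (one_core s hK (hall K hK hW)) (single_q s hK (hall K hK hW)))

theorem W_q_ne (s : Two p A θ q t) [Fact q.Prime] (hall : AllType p A θ q t) : W p A θ q ≠ ⊥ := by
  obtain ⟨K, hK, hW⟩ := exists_G s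
  exact W_ne_bot s.ctx hK (one_core s hK (hall K hK hW))

theorem Z_ne (s : Two p A θ q t) [Fact q.Prime] (hall : AllType p A θ q t) : ZOm q (W p A θ q) ≠ ⊥ :=
  ZOm_ne_bot (W_isPGroup s.ctx) (W_q_ne s hall)

/-- `O_t` of a member with a `q`-core meets no member of `𝒢_q`. -/
theorem U_inf_G (s : Two p A θ q t) [Fact q.Prime] [Fact t.Prime] (hall : AllType p A θ q t)
    {K G' : Subgroup G} (hK : MM p A θ K) (hV : O q K ≠ ⊥) (hG : MM p A θ G') (hW : W p A θ q ≤ G') :
    O t K ⊓ G' = ⊥ := by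
  have h := s.ctx
  have hB : IsPGroup t (O t K ⊓ G' : Subgroup G) := (O_isPGroup (K := K)).to_le inf_le_left
  refine bot_of_cent s.symm hG (hall G' hG hW) inf_le_right hB ?_
  have hBV : O t K ⊓ G' ≤ centralizer (O q K : Set G) :=
    inf_le_left.trans (O_centralizes_own s.ne.symm)
  have hVG : O q K ≤ G' := (O_le_W h hK).trans hW
  refine axb O_isPGroup ?_ (O_isPGroup (q := q) (K := G')) (hVG.trans O_normal) (inf_le_right.trans O_normal)
    hBV ?_
  · intro hd
    obtain ⟨k, hk⟩ := hB.exists_card_eq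
    exact s.ne ((Nat.prime_dvd_prime_iff_eq Fact.out Fact.out).1 ((Fact.out : q.Prime).dvd_of_dvd_pow (hk ▸ hd)))
  · have hCK : O q G' ⊓ centralizer (O q K : Set G) ≤ K :=
      le_of_normalizes_O h hK hV
        (mem_sub h (O_mem h hG.1) inf_le_left
          (le_normalizer_inf (A_O h hG) (le_normalizer_centralizer' (A_O h hK))))
        (inf_le_right.trans (centralizer_le_normalizer _))
    exact O_commute s.ne.symm inf_le_left inf_le_left inf_le_right hCK

/-- `O_t` of a member with a `q`-core has no fixed points of `Z(W q)`. -/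
theorem U_cent_Z (s : Two p A θ q t) [Fact q.Prime] [Fact t.Prime] (hall : AllType p A θ q t)
    {K : Subgroup G} (hK : MM p A θ K) (hV : O q K ≠ ⊥) :
    O t K ⊓ centralizer (ZOm q (W p A θ q) : Set G) = ⊥ := by
  have h := s.ctx
  obtain ⟨M, hM, hWM, hM'⟩ := M_of_center h (Z_mem h) (Z_ne s hall) (D_Z h) W_le_cent_Z
  refine le_bot_iff.1 ((le_inf inf_le_left (hM' _ ?_ ?_)).trans (U_inf_G s hall hK hV hM hWM).le)
  · exact mem_sub h (O_mem h hK.1) inf_le_left
      (le_normalizer_inf (A_O h hK) (le_normalizer_centralizer' (A_Z h)))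
  · exact inf_le_right.trans (centralizer_le_normalizer _)

/-- `O_t` of a member with a `q`-core meets no member of type `q`. -/
theorem U_inf_qtype (s : Two p A θ q t) [Fact q.Prime] [Fact t.Prime] (hall : AllType p A θ q t)
    {K L : Subgroup G} (hK : MM p A θ K) (hV : O q K ≠ ⊥) (hL : MM p A θ L) (hLt : O t L = ⊥) :
    O t K ⊓ L = ⊥ := by
  have h := s.ctx
  have hZL : ZOm q (W p A θ q) ≤ O q L := ZOm_W_le_O h hL (one_core s hL hLt) (single_q s hL hLt)
  refine le_bot_iff.1 ((le_inf inf_le_left ?_).trans (U_cent_Z s hall hK hV).le)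
  exact O_commute s.ne.symm inf_le_left hZL inf_le_right (ZOm_W_le h hK hV)

theorem D_inf_U (s : Two p A θ q t) [Fact q.Prime] [Fact t.Prime] (hall : AllType p A θ q t)
    {K : Subgroup G} (hK : MM p A θ K) (hV : O q K ≠ ⊥) : DD A θ ⊓ O t K = ⊥ := by
  obtain ⟨M, hM, hWM⟩ := exists_G s
  exact le_bot_iff.1 ((le_inf inf_le_right (inf_le_left.trans hM.2.1)).trans
    (U_inf_G s hall hK hV hM hWM).le)

/-- Commutators of `Z(W q)` with a `t`-subgroup of a member with a `q`-core lie in `O_t`. -/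
theorem zimg (s : Two p A θ q t) [Fact q.Prime] [Fact t.Prime] (hall : AllType p A θ q t)
    {K X Z₀ : Subgroup G} (hK : MM p A θ K) (hV : O q K ≠ ⊥) (hX : IsPGroup t X) (hXK : X ≤ K)
    (hZ₀ : Z₀ ≤ ZOm q (W p A θ q)) (hn : Z₀ ≤ normalizer (X : Set G)) : ⁅X, Z₀⁆ ≤ O t K := by
  have h := s.ctx
  have hZK : Z₀ ≤ K := hZ₀.trans (ZOm_W_le h hK hV)
  have hYX : ⁅X, Z₀⁆ ≤ X := commutator_le_of_le_normalizer hn
  have hL : ⁅Lay t q K, Z₀⁆ ≤ O t K := Subgroup.commutator_le.2 fun l hl z hz => by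
    obtain ⟨v, hv, w, hw, rfl⟩ := mem_sup_of_le_normalizer (inf_le_right.trans O_normal)
      (Lay_le_sup_W h s.ne hK (D_inf_U s hall hK hV) hl)
    have e : ⁅v * w, z⁆ = v * (z * v⁻¹ * z⁻¹) := by
      have hwz : w * z = z * w := (W_le_cent_Z hw.1 z (hZ₀ hz)).symm
      have hwzw : w * z * w⁻¹ = z := by rw [hwz, mul_inv_cancel_right]
      rw [commutatorElement_def]
      calc v * w * z * (v * w)⁻¹ * z⁻¹ = v * (w * z * w⁻¹) * v⁻¹ * z⁻¹ := by group
        _ = v * z * v⁻¹ * z⁻¹ := by rw [hwzw]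
        _ = _ := by group
    rw [e]
    exact mul_mem hv ((Subgroup.mem_normalizer_iff.mp (O_normal (hZK hz)) _).mp (inv_mem hv))
  refine le_O_of_layers h hK.1 (hYX.trans hXK) (hX.to_le hYX) fun r hr hrt x hx y hy => ?_
  haveI := Fact.mk hr
  by_cases hrq : r = q
  · subst hrq
    have hXN : X ≤ normalizer (O t K : Set G) := hXK.trans O_normal
    have hZN : Z₀ ≤ normalizer (O t K : Set G) := hZK.trans O_normal
    have hLN : Lay t r K ≤ normalizer (O t K : Set G) := Lay_le.trans O_normal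
    have h1 : ⁅⁅X, Z₀⁆, Lay t r K⁆ ≤ O t K := by
      refine Stabilizer.commutator_commutator_le_of_rotate hXN hZN hLN ?_ ?_
      · have hL' : ⁅Z₀, Lay t r K⁆ ≤ O t K := by rw [Subgroup.commutator_comm]; exact hL
        refine (Subgroup.commutator_mono hL' le_rfl).trans ?_
        exact commutator_le_of_le_normalizer hXN
      · refine (Subgroup.commutator_mono (commutator_le_of_le_normalizer (hXK.trans Lay_normal)) le_rfl).trans ?_
        exact hL
    simpa only [commutatorElement_def] using h1 (Subgroup.commutator_mem_commutator hx hy)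
  · have hxK : x ∈ K := hXK (hYX hx)
    have hr0 : ¬ r ∣ Nat.card K := fun hd => (s.only r (pr_of_mem h hr hK.1 hd)).elim hrq hrt
    have hyO : y ∈ O t K := by
      obtain ⟨k, hk, rfl⟩ := hy
      refine ⟨k, ?_, rfl⟩
      have hP := isPGroup_pCore r (G := ↥K ⧸ pCore t ↥K)
      have hk' : QuotientGroup.mk' (pCore t ↥K) k ∈ pCore r (↥K ⧸ pCore t ↥K) := hk
      obtain ⟨i, hi⟩ := hP ⟨_, hk'⟩
      have hi' : (QuotientGroup.mk' (pCore t ↥K) k) ^ r ^ i = 1 := congrArg Subtype.val hi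
      have hc : (r ^ i).Coprime (orderOf (QuotientGroup.mk' (pCore t ↥K) k)) :=
        Nat.Coprime.coprime_dvd_right ((_root_.orderOf_dvd_natCard _).trans (Subgroup.card_quotient_dvd_card _))
          (Nat.Coprime.pow_left _ (hr.coprime_iff_not_dvd.2 hr0))
      have h1 := Nat.eq_one_of_dvd_coprimes hc (orderOf_dvd_of_pow_eq_one hi') dvd_rfl
      rw [orderOf_eq_one_iff] at h1
      exact (QuotientGroup.eq_one_iff k).1 h1
    exact mul_mem ((Subgroup.mem_normalizer_iff.mp (O_normal hxK) y).mp hyO) (inv_mem hyO)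

/-- `K ↦ O_t(K)` meets correctly between two members with `q`-cores. -/
theorem U_inf_le (s : Two p A θ q t) [Fact q.Prime] [Fact t.Prime] (hall : AllType p A θ q t)
    {K K' : Subgroup G} (hK : MM p A θ K) (hV : O q K ≠ ⊥) (hK' : MM p A θ K') (hV' : O q K' ≠ ⊥) :
    O t K ⊓ K' ≤ O t K' := by
  have h := s.ctx
  set Z := ZOm q (W p A θ q)
  set X := O t K ⊓ K' with hXdef
  have hn : Z ≤ normalizer (X : Set G) :=
    le_normalizer_inf ((ZOm_W_le h hK hV).trans O_normal) ((ZOm_W_le h hK' hV').trans Subgroup.le_normalizer)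
  have hX : IsPGroup t X := (O_isPGroup (K := K)).to_le inf_le_left
  have h1 := zimg s hall hK' hV' hX inf_le_right le_rfl hn
  have hcop : (Nat.card Z).Coprime (Nat.card X) :=
    IsPGroup.coprime_card_of_ne q t s.ne Z X (Z_pgroup h) hX
  have hsol : Group.IsSolvable X := by haveI := hX.isNilpotent; infer_instance
  rw [← coprime_commutator_sup hn hcop (Or.inr hsol)]
  refine sup_le h1 ?_
  have : X ⊓ centralizer (Z : Set G) = ⊥ :=
    le_bot_iff.1 ((inf_le_inf_right _ inf_le_left).trans (U_cent_Z s hall hK hV).le)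
  rw [this]
  exact bot_le

theorem U_inf_eq (s : Two p A θ q t) [Fact q.Prime] [Fact t.Prime] (hall : AllType p A θ q t)
    {K K' : Subgroup G} (hK : MM p A θ K) (hV : O q K ≠ ⊥) (hK' : MM p A θ K') (hV' : O q K' ≠ ⊥) :
    O t K ⊓ K' = O t K ⊓ O t K' :=
  le_antisymm (le_inf inf_le_left (U_inf_le s hall hK hV hK' hV')) (inf_le_inf_left _ O_le)

/-- Two maximal members with the same non-trivial `t`-core are equal. -/
theorem eq_of_core_eq (h : Ctx p A θ) {K K' : Subgroup G} (hK : MM p A θ K) (hK' : MM p A θ K') {r : ℕ}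
    (hO : O r K ≠ ⊥) (e : O r K' = O r K) : K' = K :=
  (hK'.2.2 K hK.1 (le_of_normalizes_O h hK hO hK'.1 (e ▸ O_normal))).symm

end CfsgLib.SolvSF.Two
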