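import Cfsg.Agent.Lib.SolvSF.Interface
import Cfsg.Agent.Lib.FrobAction.Order
import Cfsg.Agent.Lib.CoprimeAbelian
import Cfsg.Agent.Lib.Elementary

/-!
Generalities for the case of two primes.
-/

set_option autoImplicit false
set_option linter.unusedSectionVars false
set_option linter.style.haveILetI false

namespace CfsgLib.SolvSF.Two

open Cfsg Subgroup CfsgLib.Signalizer CfsgLib.SolvSF
open scoped commutatorElement

universe u
variable {G : Type u} [Group G] [Finite G] {p : ℕ} [Fact p.Prime] {A : Subgroup G} {θ : G → Subgroup G}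

/-! ### Group theory -/

/-- Elements of two trivially meeting subgroups normalising each other's subgroup commute. -/
theorem commute_cross {E F : Subgroup G} (hEF : E ⊓ F = ⊥) {x y : G} (hx : x ∈ E) (hy : y ∈ F)
    (hxF : x ∈ normalizer (F : Set G)) (hyE : y ∈ normalizer (E : Set G)) : x * y = y * x := by
  have h1 : x * y * x⁻¹ * y⁻¹ ∈ E ⊓ F := by
    refine ⟨?_, ?_⟩
    · have h := (Subgroup.mem_normalizer_iff.mp hyE x⁻¹).mp (E.inv_mem hx)
      have := E.mul_mem hx h
      simpa [mul_assoc] using this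
    · exact F.mul_mem ((Subgroup.mem_normalizer_iff.mp hxF y).mp hy) (F.inv_mem hy)
  rw [hEF, Subgroup.mem_bot, mul_inv_eq_one, mul_inv_eq_iff_eq_mul] at h1
  exact h1

theorem centralizes_cross {E F X Y : Subgroup G} (hEF : E ⊓ F = ⊥) (hX : X ≤ E) (hY : Y ≤ F)
    (hXF : X ≤ normalizer (F : Set G)) (hYE : Y ≤ normalizer (E : Set G)) : X ≤ centralizer (Y : Set G) :=
  fun _ hx _ hy => (commute_cross hEF (hX hx) (hY hy) (hXF hx) (hYE hy)).symm

theorem normalizer_le_normalizer_centralizer' (X : Subgroup G) :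
    normalizer (X : Set G) ≤ normalizer (centralizer (X : Set G) : Set G) := by
  intro g hg
  refine Comp.mem_normalizer_of_maps fun c hc y hy => ?_
  have h1 : g⁻¹ * y * g ∈ X := (Subgroup.mem_normalizer_iff''.mp hg y).mp hy
  have h2 := hc _ h1
  calc y * (g * c * g⁻¹) = g * (g⁻¹ * y * g * c) * g⁻¹ := by group
    _ = g * (c * (g⁻¹ * y * g)) * g⁻¹ := by rw [h2]
    _ = g * c * g⁻¹ * y := by group

theorem le_normalizer_inf {B X Y : Subgroup G} (hX : B ≤ normalizer (X : Set G))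
    (hY : B ≤ normalizer (Y : Set G)) : B ≤ normalizer ((X ⊓ Y : Subgroup G) : Set G) :=
  fun b hb => Comp.mem_normalizer_of_maps fun x hx =>
    ⟨(Subgroup.mem_normalizer_iff.mp (hX hb) x).mp hx.1, (Subgroup.mem_normalizer_iff.mp (hY hb) x).mp hx.2⟩

theorem le_normalizer_commutator' {B X Y : Subgroup G} (hX : B ≤ normalizer (X : Set G))
    (hY : B ≤ normalizer (Y : Set G)) : B ≤ normalizer ((⁅X, Y⁆ : Subgroup G) : Set G) := by
  intro b hb
  rw [Subgroup.mem_normalizer_iff_map_conj_eq, Subgroup.map_commutator]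
  congr 1
  · exact Subgroup.mem_normalizer_iff_map_conj_eq.mp (hX hb)
  · exact Subgroup.mem_normalizer_iff_map_conj_eq.mp (hY hb)

theorem le_normalizer_normalizer {B X : Subgroup G} (hX : B ≤ normalizer (X : Set G)) :
    B ≤ normalizer ((normalizer (X : Set G) : Subgroup G) : Set G) :=
  hX.trans Subgroup.le_normalizer

theorem le_normalizer_centralizer' {B X : Subgroup G} (hX : B ≤ normalizer (X : Set G)) :
    B ≤ normalizer (centralizer (X : Set G) : Set G) :=
  hX.trans (normalizer_le_normalizer_centralizer' X)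

/-- A normalised subgroup of a `q`-group, closed under its normaliser there, is the whole group. -/
theorem eq_of_normalizer_le {q : ℕ} [Fact q.Prime] {S P : Subgroup G} (hP : IsPGroup q P) (hSP : S ≤ P)
    (h : P ⊓ normalizer (S : Set G) ≤ S) : S = P := by
  by_contra hne
  haveI := hP.isNilpotent
  have hlt : S.subgroupOf P < ⊤ := lt_top_iff_ne_top.2 fun e =>
    hne (le_antisymm hSP (Subgroup.subgroupOf_eq_top.1 e))
  have h1 := Group.normalizerCondition_of_isNilpotent (S.subgroupOf P) hlt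
  refine h1.ne (le_antisymm Subgroup.le_normalizer fun k hk => ?_)
  rw [Subgroup.mem_subgroupOf]
  refine h ⟨k.2, Subgroup.mem_normalizer_iff.2 fun w => ?_⟩
  constructor
  · intro hw
    exact (Subgroup.mem_normalizer_iff.1 hk ⟨w, hSP hw⟩).1 hw
  · intro hw
    have hwP : w ∈ P := by
      have := mul_mem (mul_mem (inv_mem k.2) (hSP hw)) k.2
      simpa [mul_assoc] using this
    exact (Subgroup.mem_normalizer_iff.1 hk ⟨w, hwP⟩).2 hw

/-- A non-trivial normal subgroup of a `q`-group meets its centre. -/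
theorem inf_centralizer_ne_bot {q : ℕ} [Fact q.Prime] {P N : Subgroup G} (hP : IsPGroup q P) (hNP : N ≤ P)
    (hn : P ≤ normalizer (N : Set G)) (hN : N ≠ ⊥) : N ⊓ centralizer (P : Set G) ≠ ⊥ := by
  haveI := hP.isNilpotent
  haveI : (N.subgroupOf P).Normal := (Subgroup.normal_subgroupOf_iff_le_normalizer hNP).2 hn
  have hne : N.subgroupOf P ≠ ⊥ := fun e => hN (by
    rw [← Subgroup.map_subgroupOf_eq_of_le hNP, e, Subgroup.map_bot])
  have h1 := inf_center_ne_bot_of_nilpotent hne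
  intro e
  refine h1 (eq_bot_iff.2 fun x hx => ?_)
  have hx' : (x : G) ∈ N ⊓ centralizer (P : Set G) :=
    ⟨hx.1, fun y hy => congrArg Subtype.val (Subgroup.mem_center_iff.mp hx.2 ⟨y, hy⟩)⟩
  rw [e, Subgroup.mem_bot] at hx'
  rw [Subgroup.mem_bot]
  exact Subtype.ext hx'

/-- If `B` is fixed point free modulo the Frattini subgroup of `Y`, the centralised generators are redundant. -/
theorem frattini_gen {q : ℕ} [Fact q.Prime] {Y B S : Subgroup G} (hY : IsPGroup q Y)
    (hYB : Y ≤ ⁅Y, B⁆) (hB : B ≤ normalizer (Y : Set G)) (hS : S ≤ Y) (hBS : B ≤ normalizer (S : Set G))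
    (hgen : Y ≤ S ⊔ (Y ⊓ centralizer (B : Set G))) : Y ≤ S := by
  have hYY : ⁅Y, Y⁆ ≤ Y := commutator_le_of_le_normalizer Subgroup.le_normalizer
  set S₁ := S ⊔ ⁅Y, Y⁆ with hS₁
  have hS₁Y : S₁ ≤ Y := sup_le hS hYY
  have hYn : Y ≤ normalizer (S₁ : Set G) := fun y hy => Comp.mem_normalizer_of_maps fun x hx => by
    have h1 : y * x * y⁻¹ * x⁻¹ ∈ S₁ := le_sup_right (a := S) (by
      simpa only [commutatorElement_def] using Subgroup.commutator_mem_commutator hy (hS₁Y hx))
    have := mul_mem h1 hx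
    simpa [mul_assoc] using this
  have hBn : B ≤ normalizer (S₁ : Set G) := fun b hb => Comp.mem_normalizer_of_maps fun x hx => by
    have hle : S₁ ≤ S₁.comap (MulAut.conj b).toMonoidHom := sup_le
      (fun s hs => le_sup_left (b := ⁅Y, Y⁆) ((Subgroup.mem_normalizer_iff.mp (hBS hb) s).mp hs))
      (fun s hs => le_sup_right (a := S)
        ((Subgroup.mem_normalizer_iff.mp (le_normalizer_commutator' hB hB hb) s).mp hs))
    exact hle hx
  have hY1 : Y ≤ S₁ := by
    refine hYB.trans (Subgroup.commutator_le.2 fun y hy b hb => ?_)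
    have hy' : y ∈ S₁ ⊔ (Y ⊓ centralizer (B : Set G)) := (sup_le_sup_right (le_sup_left : S ≤ S₁) _) (hgen hy)
    obtain ⟨s, hs, c, hc, rfl⟩ := mem_sup_of_le_normalizer (inf_le_left.trans hYn) hy'
    have hbs : b * s⁻¹ * b⁻¹ ∈ S₁ := (Subgroup.mem_normalizer_iff.mp (hBn hb) _).mp (inv_mem hs)
    have e : ⁅s * c, b⁆ = s * (b * s⁻¹ * b⁻¹) := by
      have hcb : c * b * c⁻¹ = b := by rw [← hc.2 b hb, mul_inv_cancel_right]
      rw [commutatorElement_def, mul_inv_rev]
      calc s * c * b * (c⁻¹ * s⁻¹) * b⁻¹ = s * (c * b * c⁻¹) * s⁻¹ * b⁻¹ := by group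
        _ = s * b * s⁻¹ * b⁻¹ := by rw [hcb]
        _ = _ := by group
    rw [e]
    exact mul_mem hs hbs
  haveI := hY.isNilpotent
  have htop : S.subgroupOf Y ⊔ frattini Y = ⊤ := by
    refine eq_top_iff.2 fun y _ => ?_
    have hle : S₁ ≤ (S.subgroupOf Y ⊔ commutator Y).map Y.subtype := by
      rw [Subgroup.map_sup, Subgroup.map_subgroupOf_eq_of_le hS, Subgroup.map_subtype_commutator]
    obtain ⟨z, hz, e⟩ := hle (hY1 y.2)
    rw [← Subtype.ext e]
    exact sup_le_sup_left (commutator_le_frattini_pGroup hY) _ hz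
  exact Subgroup.subgroupOf_eq_top.1 (frattini_nongenerating htop)

/-- A fixed point free group of prime order: its commutators act trivially. -/
theorem frob {r : ℕ} [Fact r.Prime] {Z U : Subgroup G} [IsMulCommutative Z] {b : G} (hb : orderOf b = r)
    (hbZ : b ∈ normalizer (Z : Set G)) (hbU : b ∈ normalizer (U : Set G)) (hZU : Z ≤ normalizer (U : Set G))
    (hcZ : r.Coprime (Nat.card Z)) (hcU : r.Coprime (Nat.card U))
    (hcZU : (Nat.card Z).Coprime (Nat.card U)) (hU : Group.IsSolvable U)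
    (hfix : U ⊓ centralizer ({b} : Set G) = ⊥) :
    ⁅Z, zpowers b⁆ ≤ centralizer (U : Set G) := by
  set E := zpowers b with hE
  set R := ⁅Z, E⁆ with hR
  have hEc : Nat.card E = r := by rw [hE, Nat.card_zpowers, hb]
  have hEZ : E ≤ normalizer (Z : Set G) := Subgroup.zpowers_le.2 hbZ
  have hEU : E ≤ normalizer (U : Set G) := Subgroup.zpowers_le.2 hbU
  have hRZ : R ≤ Z := commutator_le_of_le_normalizer hEZ
  have hER : E ≤ normalizer (R : Set G) := right_le_normalizer_commutator E Z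
  haveI : IsMulCommutative R := ⟨⟨fun x y => Subtype.ext (show (x : G) * y = y * x from congrArg Subtype.val
    (IsMulCommutative.is_comm.comm (⟨(x : G), hRZ x.2⟩ : Z) ⟨(y : G), hRZ y.2⟩))⟩⟩
  haveI : Group.IsNilpotent R := by
    letI : CommGroup R := IsMulCommutative.instCommGroup
    exact CommGroup.isNilpotent
  have hbot := coprime_abelian_disjoint E Z hEZ (by rw [hEc]; exact hcZ)
  have hfpf : ∀ e ∈ E, e ≠ 1 → ∀ u ∈ R, e * u = u * e → u = 1 := by
    intro e he he1 u hu hcomm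
    have hgen : zpowers e = E := Subgroup.eq_of_le_of_card_ge (Subgroup.zpowers_le.mpr he) (by
      have h1 : orderOf e ∣ r := hEc ▸ Subgroup.orderOf_dvd_natCard E he
      rw [Nat.card_zpowers e, hEc,
        ((Nat.dvd_prime (Fact.out : r.Prime)).1 h1).resolve_left fun h => he1 (orderOf_eq_one_iff.1 h)])
    have hu' : u ∈ (Z ⊓ centralizer (E : Set G)) ⊓ ⁅Z, E⁆ := by
      refine ⟨⟨hRZ hu, fun x hx => ?_⟩, hu⟩
      obtain ⟨i, rfl⟩ := Subgroup.mem_zpowers_iff.mp (hgen.ge hx)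
      exact ((show Commute e u from hcomm).zpow_left i).eq
    rwa [hbot, Subgroup.mem_bot] at hu'
  have hV : R ⊔ E ≤ normalizer (U : Set G) := sup_le (hRZ.trans hZU) hEU
  have hcop : (Nat.card ↥(R ⊔ E)).Coprime (Nat.card U) := by
    refine Nat.Coprime.coprime_dvd_left (card_sup_dvd hER) (Nat.Coprime.mul_left ?_ ?_)
    · rw [hEc]; exact hcU
    · exact hcZU.coprime_dvd_left (Subgroup.card_dvd_of_le hRZ)
  have hf := CfsgLib.FrobAction.order_formula R E hER hfpf U hV hcop hU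
  have hUE : U ⊓ centralizer (E : Set G) = ⊥ := le_bot_iff.1 (hfix ▸ inf_le_inf_left _
    (Subgroup.centralizer_le (Set.singleton_subset_iff.2 (mem_zpowers b))))
  have hUX : U ⊓ centralizer ((R ⊔ E : Subgroup G) : Set G) = ⊥ := le_bot_iff.1 (hUE ▸ inf_le_inf_left _
    (Subgroup.centralizer_le (SetLike.coe_subset_coe.mpr le_sup_right)))
  rw [hUE, hUX] at hf
  simp only [Subgroup.card_bot, one_pow, one_mul] at hf
  have h2 : U ⊓ centralizer (R : Set G) = U := Subgroup.eq_of_le_of_card_ge inf_le_left hf.le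
  exact Subgroup.le_centralizer_iff.mp (inf_eq_left.mp h2)

/-- If `R` moves nothing of `E` that `B` moves, the twists of `B` by `R` centralise `E`. -/
theorem twist {q : ℕ} {E B R : Subgroup G} (hE : IsPGroup q E) (hBE : B ≤ normalizer (E : Set G))
    (hRE : R ≤ normalizer (E : Set G)) (hRB : R ≤ normalizer (B : Set G))
    (hcopR : (Nat.card R).Coprime (Nat.card E)) (hcopB : (Nat.card B).Coprime (Nat.card E))
    [Fact q.Prime] (hN : B ≤ centralizer ((⁅E, R⁆ : Subgroup G) : Set G)) {b : G} (hb : b ∈ B) {a : G}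
    (ha : a ∈ R) : a * b * a⁻¹ * b⁻¹ ∈ centralizer (E : Set G) := by
  intro w hw
  set N := ⁅E, R⁆ with hNdef
  set c := a * b * a⁻¹ * b⁻¹ with hc
  have hcB : c ∈ B := mul_mem ((Subgroup.mem_normalizer_iff.mp (hRB ha) b).mp hb) (inv_mem hb)
  have hsol : Group.IsSolvable R ∨ Group.IsSolvable E := Or.inr (by
    haveI := hE.isNilpotent; infer_instance)
  have hv : b⁻¹ * w * b ∈ E := (Subgroup.mem_normalizer_iff''.mp (hBE hb) w).mp hw
  obtain ⟨n, hn, v, hvC, hnv⟩ := coprime_decomp hRE hcopR hsol hv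
  have hcn : ∀ m ∈ N, c * m * c⁻¹ = m := fun m hm => by
    rw [← hN hcB m hm, mul_inv_cancel_right]
  -- `c` moves `w` by an element of `N`
  obtain ⟨m, hm, hmw⟩ : ∃ m ∈ N, c * w * c⁻¹ = m * w := by
    have hw' : b * v * b⁻¹ ∈ E := (Subgroup.mem_normalizer_iff.mp (hBE hb) v).mp hvC.1
    obtain ⟨x, hx, y, hy, hxy⟩ := coprime_decomp hRE hcopR hsol hw'
    have hax : a * x * a⁻¹ ∈ N :=
      (Subgroup.mem_normalizer_iff.mp (right_le_normalizer_commutator R E ha) x).mp hx
    refine ⟨n * (a * x * a⁻¹) * x⁻¹ * n⁻¹, mul_mem (mul_mem (mul_mem hn hax) (inv_mem hx)) (inv_mem hn), ?_⟩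
    have hbn : b * n * b⁻¹ = n := by rw [← hN hb n hn, mul_inv_cancel_right]
    have hav : a⁻¹ * v * a = v := by
      rw [mul_assoc, ← hvC.2 a ha, inv_mul_cancel_left]
    have hay : a * y * a⁻¹ = y := by rw [hy.2 a ha, mul_inv_cancel_right]
    have hw1 : w = b * n * b⁻¹ * (b * v * b⁻¹) := by
      calc w = b * (b⁻¹ * w * b) * b⁻¹ := by group
        _ = b * (n * v) * b⁻¹ := by rw [hnv]
        _ = _ := by group
    have h1 : c * (b * v * b⁻¹) * c⁻¹ = (a * x * a⁻¹) * y := by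
      calc c * (b * v * b⁻¹) * c⁻¹ = a * (b * (a⁻¹ * v * a) * b⁻¹) * a⁻¹ := by simp only [hc]; group
        _ = a * (b * v * b⁻¹) * a⁻¹ := by rw [hav]
        _ = a * (x * y) * a⁻¹ := by rw [hxy]
        _ = (a * x * a⁻¹) * (a * y * a⁻¹) := by group
        _ = _ := by rw [hay]
    calc c * w * c⁻¹ = (c * n * c⁻¹) * (c * (b * v * b⁻¹) * c⁻¹) := by rw [hw1, hbn]; group
      _ = n * ((a * x * a⁻¹) * y) := by rw [hcn n hn, h1]
      _ = n * (a * x * a⁻¹) * x⁻¹ * n⁻¹ * (n * (x * y)) := by group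
      _ = n * (a * x * a⁻¹) * x⁻¹ * n⁻¹ * w := by rw [← hxy, hw1, hbn]
  have hpow : ∀ k : ℕ, c ^ k * w * (c ^ k)⁻¹ = m ^ k * w := by
    intro k
    induction k with
    | zero => simp
    | succ k ih =>
      calc c ^ (k + 1) * w * (c ^ (k + 1))⁻¹ = c * (c ^ k * w * (c ^ k)⁻¹) * c⁻¹ := by
            rw [pow_succ']; group
        _ = c * (m ^ k * w) * c⁻¹ := by rw [ih]
        _ = (c * m ^ k * c⁻¹) * (c * w * c⁻¹) := by group
        _ = m ^ k * (m * w) := by rw [hcn _ (pow_mem hm k), hmw]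
        _ = m ^ (k + 1) * w := by rw [pow_succ]; group
  have h1 : m ^ orderOf c = 1 := by
    have := hpow (orderOf c)
    rw [pow_orderOf_eq_one, inv_one, mul_one, one_mul] at this
    exact mul_eq_right.mp this.symm
  have hmE : m ∈ E := commutator_le_of_le_normalizer hRE hm
  have hm1 : m = 1 := orderOf_eq_one_iff.mp (Nat.eq_one_of_dvd_coprimes
    (hcopB.coprime_dvd_left (Subgroup.orderOf_dvd_natCard B hcB)) (orderOf_dvd_of_pow_eq_one h1)
    (Subgroup.orderOf_dvd_natCard E hmE))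
  rw [hm1, one_mul] at hmw
  exact (mul_inv_eq_iff_eq_mul.mp hmw).symm

/-! ### The functor -/

theorem mem_sub (h : Ctx p A θ) {X U : Subgroup G} (hX : Mem p A θ X) (hle : U ≤ X)
    (hinv : A ≤ normalizer (U : Set G)) : Mem p A θ U :=
  family_sub h.hθ hX hle hinv

theorem le_theta (h : Ctx p A θ) {X : Subgroup G} (hX : Mem p A θ X) {H : Subgroup G} (hH : H ≤ A) {a : G}
    (ha : a ∈ H) (ha1 : a ≠ 1) : X ⊓ centralizer (H : Set G) ≤ θ a :=
  (inf_centralizer_le_theta h hX hH).trans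
    (iInf_le (fun x : {x : G // x ∈ H ∧ x ≠ 1} => θ (x : G)) ⟨a, ha, ha1⟩)

theorem A_normalizes_sub (h : Ctx p A θ) {R : Subgroup G} (hR : R ≤ A) : A ≤ normalizer (R : Set G) :=
  fun x hx => Comp.mem_normalizer_of_maps fun y hy => by
    rw [ea_comm h.hA hx (hR hy), mul_inv_cancel_right]
    exact hy

theorem DD_le_theta {a : G} (ha : Pt A a) : DD A θ ≤ θ a :=
  iInf_le (fun x : {x : G // x ∈ A ∧ x ≠ 1} => θ (x : G)) ⟨a, ha.1, ha.2⟩

theorem eq_of_line_lt (h : Ctx p A θ) {R X : Subgroup G} (hR : Line p A R) (hRX : R ≤ X) (hXA : X ≤ A)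
    (hne : ¬ X ≤ R) : X = A := by
  refine Subgroup.eq_of_le_of_card_ge hXA ?_
  obtain ⟨i, hi, hXc⟩ := (Nat.dvd_prime_pow (Fact.out : p.Prime)).1 (h.hA3 ▸ Subgroup.card_dvd_of_le hXA)
  have h2 : p ^ 2 < p ^ i := by
    rw [← hXc, ← hR.2]
    by_contra hle
    exact hne (Subgroup.eq_of_le_of_card_ge hRX (not_lt.1 hle)).ge
  have : 2 < i := (Nat.pow_lt_pow_iff_right (Fact.out : p.Prime).one_lt).1 h2
  rw [hXc, h.hA3, show i = 3 by omega]

theorem sup_lines (h : Ctx p A θ) {H R : Subgroup G} (hH : Line p A H) (hR : Line p A R) (hne : H ≠ R) :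
    H ⊔ R = A := by
  refine eq_of_line_lt h hR le_sup_right (sup_le hH.1 hR.1) fun hle => hne ?_
  exact Subgroup.eq_of_le_of_card_ge (le_sup_left.trans hle) (by rw [hH.2, hR.2])

theorem sup_point (h : Ctx p A θ) {R : Subgroup G} (hR : Line p A R) {b : G} (hb : b ∈ A) (hbR : b ∉ R) :
    R ⊔ zpowers b = A :=
  eq_of_line_lt h hR le_sup_left (sup_le hR.1 (Subgroup.zpowers_le.2 hb)) fun hle =>
    hbR (hle (Subgroup.mem_sup_right (mem_zpowers b)))

theorem centralizes_A (h : Ctx p A θ) {H R : Subgroup G} (hH : Line p A H) (hR : Line p A R) (hne : H ≠ R)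
    {x : G} (hxH : x ∈ centralizer (H : Set G)) (hxR : x ∈ centralizer (R : Set G)) :
    x ∈ centralizer (A : Set G) := by
  have h1 : H ⊔ R ≤ centralizer ({x} : Set G) := sup_le
    (fun y hy => Subgroup.mem_centralizer_singleton_iff.mpr (hxH y hy))
    (fun y hy => Subgroup.mem_centralizer_singleton_iff.mpr (hxR y hy))
  rw [sup_lines h hH hR hne] at h1
  exact fun y hy => Subgroup.mem_centralizer_singleton_iff.mp (h1 hy)

theorem two_indep (h : Ctx p A θ) {H : Subgroup G} (hH : Line p A H) :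
    ∃ d e, d ∈ H ∧ d ≠ 1 ∧ e ∈ H ∧ e ∉ zpowers d ∧ e ≠ 1 := by
  have hp := (Fact.out : p.Prime)
  have hH1 : H ≠ ⊥ := fun e => by
    have := hH.2
    rw [e, Subgroup.card_bot] at this
    exact absurd this.symm (Nat.one_lt_pow (by norm_num) hp.one_lt).ne'
  obtain ⟨d, hd, hd1⟩ : ∃ d ∈ H, d ≠ 1 := by
    by_contra hcon
    push Not at hcon
    exact hH1 ((Subgroup.eq_bot_iff_forall H).2 hcon)
  refine ⟨d, ?_⟩
  by_contra hcon
  push Not at hcon
  have hle : H ≤ zpowers d := fun e he => by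
    by_cases he1 : e = 1
    · rw [he1]; exact one_mem _
    · exact not_not.1 fun hz => he1 (hcon e hd hd1 he hz)
  haveI : IsCyclic H := Subgroup.isCyclic_of_le hle
  obtain ⟨g, hg⟩ := IsCyclic.exists_generator (α := H)
  have h1 : Nat.card H = orderOf g := (orderOf_eq_card_of_forall_mem_zpowers hg).symm
  have h2 : orderOf g ≤ p := by
    refine Nat.le_of_dvd hp.pos ?_
    rw [← Subgroup.orderOf_coe]
    by_cases hg1 : (g : G) = 1
    · rw [hg1, orderOf_one]; exact one_dvd _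
    · rw [orderOf_eq_prime_of_ea h.hA (hH.1 g.2) hg1]
  rw [hH.2] at h1
  nlinarith [hp.one_lt]

end CfsgLib.SolvSF.Two
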